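import Cfsg.Agent.H40.Ward.HRows
import Cfsg.Agent.H64.Ward.Columns

/-!
The orbits of a torus feeding the column data: every column `p l` lies in an `Orbit`.
-/

set_option autoImplicit false
set_option linter.unusedSectionVars false
set_option linter.style.haveILetI false

namespace Cfsg.Agent.H40.Ward

open Subgroup Cfsg Cfsg.Agent Cfsg.Agent.CharBasic Cfsg.Agent.CharInduce Cfsg.Agent.H84.Ward
open scoped ComplexConjugate

universe u v

variable {G : Type u} [Group G] [Fintype G] {L : Type v} [Group L] [Fintype L]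

namespace TorusPair

/-- The orbit of a character of `K`: its rows are the coefficient rows of `H`. -/
theorem exists_orbit_lam (P : TorusPair G) {T : TData G L}
    (hfpf : ∀ k ∈ P.K, P.w * k * P.w⁻¹ = k → k = 1)
    (hconj : ∀ r : G, r * r = 1 → r ≠ 1 → IsConj T.t r)
    {x0 : ↥P.W} (hx0 : (x0 : G) = T.t) {ι : ↥P.K →* L}
    (hι : ∀ k : ↥P.K, T.emb (1, ι k) = (k : G)) (hodd : ∀ k : ↥P.K, Odd (orderOf (ι k)))
    {J W : Type*} [Fintype J] [Fintype W]
    (C : H64.Ward.Cols (IrrCharacter G) J W) (hone : C.one = H36.SelfCentral.triv G)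
    (hdeg : ∀ χ : IrrCharacter G, C.deg χ = (charDegree (χ : G → ℂ) : ℤ))
    (hval : ∀ χ : IrrCharacter G, (χ : G → ℂ) T.t = C.tval χ)
    (θa : Fin 3 → L → ℂ) (ha : ∀ i, VanEven (θa i)) (hCa : ∀ i χ, C.a i χ = T.coef (ha i) χ)
    (hθa : ∀ (i : Fin 3) (k : ↥P.K), k ≠ 1 → θa i (ι k) = if i = 0 then 0 else -2)
    (θp : J → L → ℂ) (hp : ∀ l, VanEven (θp l)) (hCp : ∀ l χ, C.p l χ = T.coef (hp l) χ)
    (μ : J → (↥P.K →* ℂˣ))
    (hθp : ∀ (l : J) (k : ↥P.K), k ≠ 1 → θp l (ι k) = -2 * ((μ l k : ℂ) + (μ l k : ℂ)⁻¹))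
    (hμ1 : ∀ l, μ l ≠ 1) (hμinj : ∀ l l', μ l = μ l' ∨ μ l = (μ l')⁻¹ → l = l')
    (hμsurj : ∀ ν : ↥P.K →* ℂˣ, ν ≠ 1 → ∃ l, μ l = ν ∨ μ l = ν⁻¹)
    (θz : W → L → ℂ) (hz : ∀ w, VanEven (θz w)) (hCz : ∀ w χ, C.z w χ = T.coef (hz w) χ)
    (hθz : ∀ (w : W) (k : ↥P.K), k ≠ 1 → θz w (ι k) = 0) {lam : ↥P.K →* ℂˣ}
    (hlam : P.Adapted lam) (hv : ∀ j : Fin 3, P.actW (j, 0) x0 ≠ 1) :
    ∃ O : H64.Ward.Orbit C, (∀ j, O.H j = P.hcoef (hv j) hlam) ∧
      (μ (O.idx 0) = lam ∨ μ (O.idx 0) = lam⁻¹) := by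
  classical
  have hx1 : x0 ≠ 1 := fun e => T.t_ne_one (by rw [← hx0, e]; rfl)
  have hlne : ∀ i : Fin 3, lam.comp (P.actK (i, 0)) ≠ 1 := by
    intro i e
    refine P.lam_one_ne hlam (MonoidHom.ext fun k => ?_)
    obtain ⟨k', rfl⟩ := Finite.surjective_of_injective (f := P.actK (i, 0)) (fun a b hab => by
      have h' := congrArg Subtype.val hab
      simp only [actK_coe] at h'
      exact Subtype.ext (mul_left_cancel (mul_right_cancel h'))) k
    exact DFunLike.congr_fun e k'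
  choose idx hidx using fun i : Fin 3 => hμsurj (lam.comp (P.actK (i, 0))) (hlne i)
  have hid : lam.comp (P.actK (0, 0)) = lam :=
    MonoidHom.ext fun k => congrArg lam (Subtype.ext (by simp [rep]))
  have hidx0 : μ (idx 0) = lam ∨ μ (idx 0) = lam⁻¹ := by
    have h := hidx 0
    rwa [hid] at h
  have hinj : Function.Injective idx := by
    intro a b hab
    have ha' := hidx a
    rw [hab] at ha'
    rcases ha' with h1 | h1 <;> rcases hidx b with h2 | h2 <;> rw [h2] at h1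
    · exact ((P.lam_act_eq_iff hlam).1 h1).symm
    · exact absurd h1.symm (P.lam_act_ne_inv hlam a b)
    · exact absurd h1 (P.lam_act_ne_inv hlam b a)
    · exact ((P.lam_act_eq_iff hlam).1 (by
        rw [← P.hom_inv_inv (lam.comp (P.actK (b, 0))), h1, P.hom_inv_inv])).symm
  have hHA : ∀ (j : Fin 3) {θ : L → ℂ} (h : VanEven θ) {c : ℤ},
      (∀ k : ↥P.K, k ≠ 1 → θ (ι k) = -2 * (c : ℂ)) →
      ∑ χ, P.hcoef (hv j) hlam χ * T.coef h χ = c := by
    intro j θ h c hc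
    convert P.hcoef_F hlam (hv j) h (m := c) (by
      rw [P.classInner_H_F_const hlam (hv j) h hx0 hι hodd hc]
      simp only [map_mul, map_neg, map_ofNat, map_intCast]
      ring) using 2
  refine ⟨{
    idx := idx
    idx_inj := hinj
    H := fun j => P.hcoef (hv j) hlam
    H_sq := fun j => ?_
    H_dot := fun i j hij => ?_
    H_one := fun j => ?_
    H_a := fun i j => ?_
    H_idx := fun i j => ?_
    H_other := fun j l hl => ?_
    H_z := fun j w => ?_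
    H_deg := fun j => ?_
    H_fun := fun j => ?_ }, fun _ => rfl, hidx0⟩
  · have := P.hcoef_gram hlam (hv j) (hv j)
    rw [if_pos rfl] at this
    unfold H64.Ward.dot
    convert this using 2
  · have := P.hcoef_gram hlam (hv i) (hv j)
    rw [if_neg fun e => hij (P.orbit_injective hlam hx1 e)] at this
    unfold H64.Ward.dot
    convert this using 2
  · rw [hone]
    exact P.hcoef_triv hlam (hv j)
  · unfold H64.Ward.dot
    simp only [hCa]
    refine hHA j (ha i) fun k hk => ?_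
    rw [hθa i k hk]
    split_ifs <;> simp
  · unfold H64.Ward.dot
    simp only [hCp]
    convert P.hcoef_F hlam (hv j) (hp (idx i)) (m := if i = j then 1 else -1) (by
      rw [H_eq_ind, P.classInner_ind_F_hom hlam _ (hp (idx i)) hx0 hι hodd (i0 := i) (hidx i)
        (hθp (idx i)), P.sgn_orbit hlam _ x0 hx1]
      simp only [(P.orbit_injective hlam hx1).eq_iff]
      simp only [map_neg, map_ofNat]
      split_ifs <;> norm_num) using 2
  · unfold H64.Ward.dot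
    simp only [hCp]
    convert P.hcoef_F hlam (hv j) (hp l) (m := 0) (by
      rw [H_eq_ind, Int.cast_zero]
      refine P.classInner_ind_F_hom_ne hlam _ (hp l) hx0 hι hodd (hμ1 l) (fun i => ?_) (hθp l)
      refine ⟨fun e => hl ⟨i, hμinj _ _ ?_⟩, fun e => hl ⟨i, hμinj _ _ ?_⟩⟩
      · rcases hidx i with h | h <;> rw [h, e]
        · exact Or.inl rfl
        · exact Or.inr rfl
      · rcases hidx i with h | h <;> rw [h, e]
        · exact Or.inr rfl
        · rw [P.hom_inv_inv]; exact Or.inl rfl) using 2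
  · unfold H64.Ward.dot
    simp only [hCz]
    refine hHA j (hz w) fun k hk => ?_
    rw [hθz w k hk]
    simp
  · unfold H64.Ward.dot
    simp only [hdeg]
    convert P.hcoef_deg hlam (hv j) using 2
  · unfold H64.Ward.classFn
    simp only [hdeg, Int.cast_natCast]
    convert P.hcoef_functional hlam (hv j) T.t_sq T.t_ne_one hconj C.tval hval using 2

/-- every column `p l` is the index of an orbit -/
theorem exists_orbit (P : TorusPair G) {T : TData G L}
    (hfpf : ∀ k ∈ P.K, P.w * k * P.w⁻¹ = k → k = 1)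
    (hconj : ∀ r : G, r * r = 1 → r ≠ 1 → IsConj T.t r)
    {x0 : ↥P.W} (hx0 : (x0 : G) = T.t) {ι : ↥P.K →* L}
    (hι : ∀ k : ↥P.K, T.emb (1, ι k) = (k : G)) (hodd : ∀ k : ↥P.K, Odd (orderOf (ι k)))
    {J W : Type*} [Fintype J] [Fintype W]
    (C : H64.Ward.Cols (IrrCharacter G) J W) (hone : C.one = H36.SelfCentral.triv G)
    (hdeg : ∀ χ : IrrCharacter G, C.deg χ = (charDegree (χ : G → ℂ) : ℤ))
    (hval : ∀ χ : IrrCharacter G, (χ : G → ℂ) T.t = C.tval χ)
    (θa : Fin 3 → L → ℂ) (ha : ∀ i, VanEven (θa i)) (hCa : ∀ i χ, C.a i χ = T.coef (ha i) χ)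
    (hθa : ∀ (i : Fin 3) (k : ↥P.K), k ≠ 1 → θa i (ι k) = if i = 0 then 0 else -2)
    (θp : J → L → ℂ) (hp : ∀ l, VanEven (θp l)) (hCp : ∀ l χ, C.p l χ = T.coef (hp l) χ)
    (μ : J → (↥P.K →* ℂˣ))
    (hθp : ∀ (l : J) (k : ↥P.K), k ≠ 1 → θp l (ι k) = -2 * ((μ l k : ℂ) + (μ l k : ℂ)⁻¹))
    (hμ1 : ∀ l, μ l ≠ 1) (hμinj : ∀ l l', μ l = μ l' ∨ μ l = (μ l')⁻¹ → l = l')
    (hμsurj : ∀ ν : ↥P.K →* ℂˣ, ν ≠ 1 → ∃ l, μ l = ν ∨ μ l = ν⁻¹)
    (θz : W → L → ℂ) (hz : ∀ w, VanEven (θz w)) (hCz : ∀ w χ, C.z w χ = T.coef (hz w) χ)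
    (hθz : ∀ (w : W) (k : ↥P.K), k ≠ 1 → θz w (ι k) = 0) (l0 : J) :
    ∃ (O : H64.Ward.Orbit C) (i : Fin 3), O.idx i = l0 := by
  have hx1 : x0 ≠ 1 := fun e => T.t_ne_one (by rw [← hx0, e]; rfl)
  obtain ⟨O, -, h⟩ := P.exists_orbit_lam hfpf hconj hx0 hι hodd C hone hdeg hval θa ha hCa hθa θp hp
    hCp μ hθp hμ1 hμinj hμsurj θz hz hCz hθz (P.adapted_of_fpf hfpf (hμ1 l0)) fun j e =>
      hx1 (P.actW_injective (j, 0) (e.trans (map_one _).symm))
  exact ⟨O, 0, hμinj _ _ h⟩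

end TorusPair

end Cfsg.Agent.H40.Ward
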