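import Cfsg.Agent.CharInduce.Ops
import Cfsg.Agent.CharInduce.Induce

/-!
The subgroup `T = W × K` of a group with abelian Sylow 2-subgroups: a four group `W`, an abelian
group `K` of odd order, an element `w` permuting the involutions of `W` cyclically and an
involution `u` centralising `W` and inverting `K`; signs of `W` and functions on `T`.
-/

set_option autoImplicit false

namespace Cfsg.Agent.H40.Ward

open Subgroup Cfsg Cfsg.Agent Cfsg.Agent.CharBasic Cfsg.Agent.CharInduce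
open scoped ComplexConjugate

set_option linter.unusedSectionVars false
set_option linter.style.haveILetI false

universe u

variable {G : Type u} [Group G]

/-- the torus `W × K` of a four group with the elements `w`, `u` inducing its normaliser -/
structure TorusPair (G : Type u) [Group G] where
  /-- the four group -/
  W : Subgroup G
  /-- the odd part -/
  K : Subgroup G
  /-- the element of order three on `W` -/
  w : G
  /-- the inverting involution -/
  u : G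
  klein : IsKleinFour ↥W
  odd : Odd (Nat.card ↥K)
  comm_K : ∀ a ∈ K, ∀ b ∈ K, Commute a b
  comm : ∀ x ∈ W, ∀ k ∈ K, Commute x k
  w_W : ∀ x ∈ W, w * x * w⁻¹ ∈ W
  w_K : ∀ k ∈ K, w * k * w⁻¹ ∈ K
  w_cube : w ^ 3 ∈ W ⊔ K
  w_fpf : ∀ x ∈ W, w * x * w⁻¹ = x → x = 1
  u_sq : u * u = 1
  u_W : ∀ x ∈ W, u * x * u⁻¹ = x
  u_K : ∀ k ∈ K, u * k * u⁻¹ = k⁻¹
  cent : ∀ k ∈ K, w * k * w⁻¹ ≠ k → centralizer ({k} : Set G) ≤ W ⊔ K
  normaliser : ∀ g : G, (∀ y, y ∈ W ⊔ K ↔ g * y * g⁻¹ ∈ W ⊔ K) →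
    ∃ i < 3, ∃ j < 2, (w ^ i * u ^ j)⁻¹ * g ∈ W ⊔ K

namespace TorusPair

variable (P : TorusPair G)

/-- the torus -/
def T : Subgroup G := P.W ⊔ P.K

theorem W_le : P.W ≤ P.T := le_sup_left
theorem K_le : P.K ≤ P.T := le_sup_right

theorem mul_self {x : G} (hx : x ∈ P.W) : x * x = 1 := by
  haveI := P.klein
  simpa using congrArg Subtype.val (IsKleinFour.mul_self (⟨x, hx⟩ : ↥P.W))

theorem comm_W {x y : G} (hx : x ∈ P.W) (hy : y ∈ P.W) : Commute x y := by
  haveI := P.klein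
  haveI : IsMulCommutative ↥P.W := IsKleinFour.isMulCommutative
  exact congrArg Subtype.val (mul_comm' (a := (⟨x, hx⟩ : ↥P.W)) (b := ⟨y, hy⟩))

/-- the multiplication map -/
def mulHom : ↥P.W × ↥P.K →* G :=
  P.W.subtype.noncommCoprod P.K.subtype fun x k => P.comm x x.2 k k.2

@[simp] theorem mulHom_apply (x : ↥P.W × ↥P.K) : P.mulHom x = (x.1 : G) * x.2 := rfl

theorem eq_one_of_mem_both {x : G} (hx : x ∈ P.W) (hx' : x ∈ P.K) : x = 1 :=
  orderOf_eq_one_iff.1 (Nat.eq_one_of_dvd_coprimes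
    (Nat.coprime_two_left.2 P.odd)
    (orderOf_dvd_of_pow_eq_one (by rw [pow_two]; exact P.mul_self hx))
    (Subgroup.orderOf_dvd_natCard _ hx'))

theorem mulHom_injective : Function.Injective P.mulHom := by
  rw [injective_iff_map_eq_one]
  rintro ⟨x, k⟩ h
  simp only [mulHom_apply] at h
  have hk : (k : G) = (x : G)⁻¹ := eq_inv_of_mul_eq_one_right h
  have hx : (k : G) = 1 := P.eq_one_of_mem_both (hk ▸ inv_mem x.2) k.2
  have hx' : (x : G) = 1 := by simpa [hx] using h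
  exact Prod.ext (Subtype.ext hx') (Subtype.ext hx)

theorem range_mulHom : P.mulHom.range = P.T := by
  refine le_antisymm ?_ (sup_le ?_ ?_)
  · rintro _ ⟨⟨x, k⟩, rfl⟩
    exact mul_mem (P.W_le x.2) (P.K_le k.2)
  · exact fun x hx => ⟨(⟨x, hx⟩, 1), by simp⟩
  · exact fun k hk => ⟨(1, ⟨k, hk⟩), by simp⟩

/-- the torus as a direct product -/
noncomputable def equiv : ↥P.W × ↥P.K ≃* ↥P.T :=
  (MonoidHom.ofInjective P.mulHom_injective).trans (MulEquiv.subgroupCongr P.range_mulHom)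

@[simp] theorem equiv_coe (x : ↥P.W × ↥P.K) : (P.equiv x : G) = (x.1 : G) * x.2 := rfl

theorem exists_eq {g : G} (hg : g ∈ P.T) : ∃ x ∈ P.W, ∃ k ∈ P.K, g = x * k := by
  rw [← P.range_mulHom] at hg
  obtain ⟨⟨x, k⟩, rfl⟩ := hg
  exact ⟨x, x.2, k, k.2, rfl⟩

theorem comm_T {a b : G} (ha : a ∈ P.T) (hb : b ∈ P.T) : Commute a b := by
  obtain ⟨x, hx, k, hk, rfl⟩ := P.exists_eq ha
  obtain ⟨y, hy, l, hl, rfl⟩ := P.exists_eq hb
  exact (((P.comm_W hx hy).mul_right (P.comm x hx l hl)).mul_left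
    ((P.comm y hy k hk).symm.mul_right (P.comm_K k hk l hl)))

/-- the map `g ↦ c g c⁻¹` -/
def conjBy (c g : G) : G := c * g * c⁻¹

theorem conj_pow_W (i j : ℕ) {x : G} (hx : x ∈ P.W) :
    P.w ^ i * P.u ^ j * x * (P.w ^ i * P.u ^ j)⁻¹ ∈ P.W := by
  have hu : ∀ (j : ℕ) (x : G), x ∈ P.W → P.u ^ j * x * (P.u ^ j)⁻¹ = x := by
    intro j
    induction j with
    | zero => intro x _; simp
    | succ j ih =>
      intro x hx
      rw [show P.u ^ (j + 1) * x * (P.u ^ (j + 1))⁻¹ = P.u ^ j * (P.u * x * P.u⁻¹) * (P.u ^ j)⁻¹ by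
        rw [pow_succ]; group, P.u_W x hx, ih x hx]
  have hw : ∀ (i : ℕ) (x : G), x ∈ P.W → P.w ^ i * x * (P.w ^ i)⁻¹ ∈ P.W := by
    intro i
    induction i with
    | zero => intro x hx; simpa using hx
    | succ i ih =>
      intro x hx
      rw [show P.w ^ (i + 1) * x * (P.w ^ (i + 1))⁻¹ = P.w ^ i * (P.w * x * P.w⁻¹) * (P.w ^ i)⁻¹ by
        rw [pow_succ]; group]
      exact ih _ (P.w_W x hx)
  rw [show P.w ^ i * P.u ^ j * x * (P.w ^ i * P.u ^ j)⁻¹ =
    P.w ^ i * (P.u ^ j * x * (P.u ^ j)⁻¹) * (P.w ^ i)⁻¹ by group, hu j x hx]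
  exact hw i x hx

theorem conj_pow_K (i j : ℕ) {k : G} (hk : k ∈ P.K) :
    P.w ^ i * P.u ^ j * k * (P.w ^ i * P.u ^ j)⁻¹ ∈ P.K := by
  have hu : ∀ (j : ℕ) (x : G), x ∈ P.K → P.u ^ j * x * (P.u ^ j)⁻¹ ∈ P.K := by
    intro j
    induction j with
    | zero => intro x hx; simpa using hx
    | succ j ih =>
      intro x hx
      rw [show P.u ^ (j + 1) * x * (P.u ^ (j + 1))⁻¹ = P.u ^ j * (P.u * x * P.u⁻¹) * (P.u ^ j)⁻¹ by
        rw [pow_succ]; group, P.u_K x hx]
      exact ih _ (inv_mem hx)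
  have hw : ∀ (i : ℕ) (x : G), x ∈ P.K → P.w ^ i * x * (P.w ^ i)⁻¹ ∈ P.K := by
    intro i
    induction i with
    | zero => intro x hx; simpa using hx
    | succ i ih =>
      intro x hx
      rw [show P.w ^ (i + 1) * x * (P.w ^ (i + 1))⁻¹ = P.w ^ i * (P.w * x * P.w⁻¹) * (P.w ^ i)⁻¹ by
        rw [pow_succ]; group]
      exact ih _ (P.w_K x hx)
  rw [show P.w ^ i * P.u ^ j * k * (P.w ^ i * P.u ^ j)⁻¹ =
    P.w ^ i * (P.u ^ j * k * (P.u ^ j)⁻¹) * (P.w ^ i)⁻¹ by group]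
  exact hw i _ (hu j k hk)

/-- the six representatives of the normaliser -/
def rep (c : Fin 3 × Fin 2) : G := P.w ^ (c.1 : ℕ) * P.u ^ (c.2 : ℕ)

theorem rep_W (c : Fin 3 × Fin 2) {x : G} (hx : x ∈ P.W) : P.rep c * x * (P.rep c)⁻¹ ∈ P.W :=
  P.conj_pow_W _ _ hx

theorem rep_K (c : Fin 3 × Fin 2) {k : G} (hk : k ∈ P.K) : P.rep c * k * (P.rep c)⁻¹ ∈ P.K :=
  P.conj_pow_K _ _ hk

theorem rep_T (c : Fin 3 × Fin 2) {a : G} (ha : a ∈ P.T) : P.rep c * a * (P.rep c)⁻¹ ∈ P.T := by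
  obtain ⟨x, hx, k, hk, rfl⟩ := P.exists_eq ha
  rw [show P.rep c * (x * k) * (P.rep c)⁻¹ =
    (P.rep c * x * (P.rep c)⁻¹) * (P.rep c * k * (P.rep c)⁻¹) by group]
  exact mul_mem (P.W_le (P.rep_W c hx)) (P.K_le (P.rep_K c hk))

/-- the action of a representative on `W` -/
def actW (c : Fin 3 × Fin 2) : ↥P.W →* ↥P.W where
  toFun x := ⟨P.rep c * x * (P.rep c)⁻¹, P.rep_W c x.2⟩
  map_one' := Subtype.ext (by simp)
  map_mul' x y := Subtype.ext (by simp only [Subgroup.coe_mul]; group)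

/-- the action of a representative on `K` -/
def actK (c : Fin 3 × Fin 2) : ↥P.K →* ↥P.K where
  toFun x := ⟨P.rep c * x * (P.rep c)⁻¹, P.rep_K c x.2⟩
  map_one' := Subtype.ext (by simp)
  map_mul' x y := Subtype.ext (by simp only [Subgroup.coe_mul]; group)

@[simp] theorem actW_coe (c : Fin 3 × Fin 2) (x : ↥P.W) :
    (P.actW c x : G) = P.rep c * x * (P.rep c)⁻¹ := rfl

@[simp] theorem actK_coe (c : Fin 3 × Fin 2) (x : ↥P.K) :
    (P.actK c x : G) = P.rep c * x * (P.rep c)⁻¹ := rfl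

theorem actW_injective (c : Fin 3 × Fin 2) : Function.Injective (P.actW c) := by
  intro x y h
  have h' := congrArg Subtype.val h
  simp only [actW_coe] at h'
  exact Subtype.ext (mul_left_cancel (mul_right_cancel h'))

/-- the sign of `W` with kernel `{1, v}` -/
noncomputable def sgn (v x : ↥P.W) : ℂ :=
  open Classical in if x = 1 ∨ x = v then 1 else -1

theorem sgn_one (v : ↥P.W) : P.sgn v 1 = 1 := by simp [sgn]

theorem sgn_mul (v x y : ↥P.W) (hv : v ≠ 1) : P.sgn v (x * y) = P.sgn v x * P.sgn v y := by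
  classical
  haveI := P.klein
  have hind : (Subgroup.zpowers v).index = 2 := by
    have h := Subgroup.card_mul_index (Subgroup.zpowers v)
    rw [Nat.card_zpowers, orderOf_eq_prime (by rw [pow_two]; exact IsKleinFour.mul_self v) hv,
      IsKleinFour.card_four] at h
    omega
  have hmem : ∀ z : ↥P.W, (z = 1 ∨ z = v) ↔ z ∈ Subgroup.zpowers v := by
    intro z
    constructor
    · rintro (rfl | rfl)
      · exact one_mem _
      · exact Subgroup.mem_zpowers _
    · intro hz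
      obtain ⟨n, rfl⟩ := Subgroup.mem_zpowers_iff.1 hz
      have h2 : v ^ (2 : ℤ) = 1 := by rw [zpow_two]; exact IsKleinFour.mul_self v
      obtain ⟨k, rfl | rfl⟩ : ∃ k, n = 2 * k ∨ n = 2 * k + 1 := ⟨n / 2, by omega⟩
      · left; rw [zpow_mul, h2, one_zpow]
      · right; rw [zpow_add, zpow_mul, h2, one_zpow, one_mul, zpow_one]
  simp only [sgn, hmem, Subgroup.mul_mem_iff_of_index_two hind]
  by_cases h1 : x ∈ Subgroup.zpowers v <;> by_cases h2 : y ∈ Subgroup.zpowers v <;> simp [h1, h2]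

theorem sgn_conj (v x : ↥P.W) : conj (P.sgn v x) = P.sgn v x := by
  unfold sgn; split_ifs <;> simp

theorem sgn_actW (c : Fin 3 × Fin 2) (v x : ↥P.W) :
    P.sgn (P.actW c v) (P.actW c x) = P.sgn v x := by
  classical
  have h : (P.actW c x = 1) ↔ x = 1 := map_eq_one_iff _ (P.actW_injective c)
  simp only [sgn, h, (P.actW_injective c).eq_iff]

section Sums

variable [Finite G]

theorem sum_sgn_mul [Fintype ↥P.W] {v v' : ↥P.W} (hv : v ≠ 1) (hv' : v' ≠ 1) :
    ∑ x : ↥P.W, P.sgn v x * P.sgn v' x = open Classical in if v = v' then 4 else 0 := by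
  classical
  haveI := P.klein
  split_ifs with h
  · subst h
    have h1 : ∀ x : ↥P.W, P.sgn v x * P.sgn v x = 1 := fun x => by
      unfold sgn; split_ifs <;> simp
    simp [h1, ← Nat.card_eq_fintype_card, IsKleinFour.card_four]
  · have h2 : P.sgn v v * P.sgn v' v = -1 := by simp [sgn, hv, h]
    have h3 := Fintype.sum_equiv (Equiv.mulLeft v) (fun x => P.sgn v (v * x) * P.sgn v' (v * x))
      (fun x => P.sgn v x * P.sgn v' x) (fun x => rfl)
    have h4 : ∀ x, P.sgn v (v * x) * P.sgn v' (v * x) = -(P.sgn v x * P.sgn v' x) := fun x => by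
      rw [P.sgn_mul v v x hv, P.sgn_mul v' v x hv', mul_mul_mul_comm, h2, neg_one_mul]
    simp only [h4, Finset.sum_neg_distrib] at h3
    linear_combination (-1 / 2 : ℂ) * h3

theorem sum_sgn [Fintype ↥P.W] {v : ↥P.W} (hv : v ≠ 1) : ∑ x : ↥P.W, P.sgn v x = 0 := by
  haveI := P.klein
  classical
  have hne : ∃ z : ↥P.W, z ≠ 1 ∧ z ≠ v := by
    by_contra h
    push Not at h
    have hsub : (Finset.univ : Finset ↥P.W) ⊆ {1, v} := fun z _ => by
      by_cases hz : z = 1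
      · simp [hz]
      · simp [h z hz]
    have h1 := Finset.card_le_card hsub
    have h2 := Finset.card_le_two (a := (1 : ↥P.W)) (b := v)
    rw [Finset.card_univ, ← Nat.card_eq_fintype_card, IsKleinFour.card_four] at h1
    omega
  obtain ⟨z, hz1, hzv⟩ := hne
  have hz : P.sgn v z = -1 := by simp [sgn, hz1, hzv]
  have h3 := Fintype.sum_equiv (Equiv.mulLeft z) (fun x => P.sgn v (z * x))
    (fun x => P.sgn v x) (fun x => rfl)
  simp only [P.sgn_mul v z _ hv, hz, neg_one_mul, Finset.sum_neg_distrib] at h3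
  linear_combination (-1 / 2 : ℂ) * h3

theorem sum_hom [Fintype ↥P.K] (μ : ↥P.K →* ℂˣ) :
    ∑ k : ↥P.K, (μ k : ℂ) = open Classical in if μ = 1 then (Nat.card ↥P.K : ℂ) else 0 := by
  classical
  split_ifs with h
  · subst h; simp [← Nat.card_eq_fintype_card]
  · obtain ⟨a, ha⟩ : ∃ a, μ a ≠ 1 := by
      by_contra hc
      push Not at hc
      exact h (MonoidHom.ext hc)
    have h3 := Fintype.sum_equiv (Equiv.mulLeft a) (fun x => (μ (a * x) : ℂ))
      (fun x => (μ x : ℂ)) (fun x => rfl)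
    simp only [map_mul, Units.val_mul, ← Finset.mul_sum] at h3
    have : ((μ a : ℂ) - 1) * ∑ k : ↥P.K, (μ k : ℂ) = 0 := by rw [sub_mul, h3, one_mul, sub_self]
    exact (mul_eq_zero.1 this).resolve_left (sub_ne_zero.2 (by simpa using ha))

end Sums

end TorusPair

end Cfsg.Agent.H40.Ward
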