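import Cfsg.Agent.H40.Ward.TorusSection

/-!
The coefficient rows of the exceptional functions `H v` and `H₁`: Gram matrix, trivial coefficient,
degree sum, sum at `t`, structure functional, products with the section rows.
-/

set_option autoImplicit false
set_option linter.unusedSectionVars false
set_option linter.style.haveILetI false

namespace Cfsg.Agent.H40.Ward

open Subgroup Cfsg Cfsg.Agent Cfsg.Agent.CharBasic Cfsg.Agent.CharInduce Cfsg.Agent.H84.Ward
open scoped ComplexConjugate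

universe u v

variable {G : Type u} [Group G] [Fintype G]

open scoped Classical in
/-- product of two integral rows -/
theorem sum_coef_mul {α β : G → ℂ} (hα : IsClassFunction G α) (hβ : IsClassFunction G β)
    {a b : IrrCharacter G → ℤ} (ha : ∀ χ : IrrCharacter G, classInner α (χ : G → ℂ) = a χ)
    (hb : ∀ χ : IrrCharacter G, classInner β (χ : G → ℂ) = b χ) {m : ℤ}
    (hm : classInner α β = m) : ∑ χ, a χ * b χ = m := by
  have h1 := classInner_eq_sum (ψ := β) hα
  rw [hm] at h1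
  simp only [ha, hb, map_intCast] at h1
  have h2 : ((∑ χ : IrrCharacter G, a χ * b χ : ℤ) : ℂ) = (m : ℂ) := by
    push_cast
    exact h1.symm
  exact_mod_cast h2

open scoped Classical in
/-- evaluation of an integral row -/
theorem sum_coef_apply {α : G → ℂ} (hα : IsClassFunction G α) {a : IrrCharacter G → ℤ}
    (ha : ∀ χ : IrrCharacter G, classInner α (χ : G → ℂ) = a χ) (g : G) :
    ∑ χ : IrrCharacter G, (a χ : ℂ) * (χ : G → ℂ) g = α g := by
  have h0 := congrFun (classFunction_expansion hα) g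
  rw [Finset.sum_apply] at h0
  rw [h0]
  exact Finset.sum_congr rfl fun χ _ => by rw [Pi.smul_apply, smul_eq_mul, ha]

namespace TorusPair

variable (P : TorusPair G)

theorem exists_hcoef {v : ↥P.W} (hv : v ≠ 1) {lam : ↥P.K →* ℂˣ} (hlam : P.Adapted lam)
    (χ : IrrCharacter G) : ∃ n : ℤ, classInner (P.H v lam) (χ : G → ℂ) = n :=
  CharInduce.IsGen.exists_int_coeff (P.H_isGen hlam hv) (IsIrr.isCharacter χ.2)

/-- the multiplicity of `χ` in `H v` -/
noncomputable def hcoef {v : ↥P.W} (hv : v ≠ 1) {lam : ↥P.K →* ℂˣ} (hlam : P.Adapted lam)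
    (χ : IrrCharacter G) : ℤ := (P.exists_hcoef hv hlam χ).choose

theorem hcoef_spec {v : ↥P.W} (hv : v ≠ 1) {lam : ↥P.K →* ℂˣ} (hlam : P.Adapted lam)
    (χ : IrrCharacter G) : classInner (P.H v lam) (χ : G → ℂ) = P.hcoef hv hlam χ :=
  (P.exists_hcoef hv hlam χ).choose_spec

/-- the multiplicity of `χ` in `H₁` -/
noncomputable def h1coef (lam : ↥P.K →* ℂˣ) (χ : IrrCharacter G) : ℤ :=
  (CharInduce.IsGen.exists_int_coeff (P.H1_isGen lam) (IsIrr.isCharacter χ.2)).choose

theorem h1coef_spec (lam : ↥P.K →* ℂˣ) (χ : IrrCharacter G) :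
    classInner (P.H1 lam) (χ : G → ℂ) = P.h1coef lam χ :=
  (CharInduce.IsGen.exists_int_coeff (P.H1_isGen lam) (IsIrr.isCharacter χ.2)).choose_spec

variable {lam : ↥P.K →* ℂˣ} (hlam : P.Adapted lam) {v : ↥P.W} (hv : v ≠ 1)

theorem H_isClass (v : ↥P.W) (lam : ↥P.K →* ℂˣ) : IsClassFunction G (P.H v lam) :=
  isClassFunction_indFun _ _

theorem H1_isClass (lam : ↥P.K →* ℂˣ) : IsClassFunction G (P.H1 lam) :=
  isClassFunction_indFun _ _

open scoped Classical in
theorem hcoef_gram {v' : ↥P.W} (hv' : v' ≠ 1) :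
    ∑ χ, P.hcoef hv hlam χ * P.hcoef hv' hlam χ = if v = v' then 3 else 2 :=
  sum_coef_mul (P.H_isClass v lam) (P.H_isClass v' lam) (P.hcoef_spec hv hlam)
    (P.hcoef_spec hv' hlam) (by rw [P.classInner_H_H hlam hv hv']; split_ifs <;> simp)

open scoped Classical in
include hlam in
theorem h1coef_gram : ∑ χ, P.h1coef lam χ * P.h1coef lam χ = 7 :=
  sum_coef_mul (P.H1_isClass lam) (P.H1_isClass lam) (P.h1coef_spec lam) (P.h1coef_spec lam)
    (by rw [P.classInner_H1_H1 hlam]; simp)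

open scoped Classical in
theorem h1coef_orth : ∑ χ, P.h1coef lam χ * P.hcoef hv hlam χ = 0 :=
  sum_coef_mul (P.H1_isClass lam) (P.H_isClass v lam) (P.h1coef_spec lam)
    (P.hcoef_spec hv hlam) (by rw [P.classInner_H1_H hlam hv]; simp)

theorem hcoef_triv : P.hcoef hv hlam (H36.SelfCentral.triv G) = 0 := by
  haveI : Fintype ↥P.W := Fintype.ofFinite _
  haveI : Fintype ↥P.K := Fintype.ofFinite _
  have h := P.hcoef_spec hv hlam (H36.SelfCentral.triv G)
  rw [P.classInner_H v lam (IsIrr.isClassFunction (H36.SelfCentral.triv G).2)] at h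
  have h1 : ((H36.SelfCentral.triv G : IrrCharacter G) : G → ℂ) = fun _ => 1 := rfl
  simp only [h1, map_one, mul_one, ← Finset.mul_sum, ← Finset.sum_mul, P.sum_sgn hv, zero_mul,
    mul_zero] at h
  exact_mod_cast h.symm

include hlam in
theorem h1coef_triv : P.h1coef lam (H36.SelfCentral.triv G) = 1 := by
  haveI : Fintype ↥P.W := Fintype.ofFinite _
  haveI : Fintype ↥P.K := Fintype.ofFinite _
  haveI := P.klein
  have h := P.h1coef_spec lam (H36.SelfCentral.triv G)
  rw [H1, P.classInner_ind _ lam (IsIrr.isClassFunction (H36.SelfCentral.triv G).2)] at h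
  have h1 : ((H36.SelfCentral.triv G : IrrCharacter G) : G → ℂ) = fun _ => 1 := rfl
  have hs : ∑ k : ↥P.K, (1 - (lam k : ℂ)) = (Nat.card ↥P.K : ℂ) := by
    rw [Finset.sum_sub_distrib, P.sum_hom lam, if_neg (P.lam_one_ne hlam), Finset.sum_const,
      Finset.card_univ, ← Nat.card_eq_fintype_card, nsmul_eq_mul, mul_one, sub_zero]
  simp only [h1, map_one, mul_one, one_mul, hs, Finset.sum_const, Finset.card_univ,
    ← Nat.card_eq_fintype_card, IsKleinFour.card_four, nsmul_eq_mul] at h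
  have hk : (Nat.card ↥P.K : ℂ) ≠ 0 := by simp
  push_cast at h
  rw [inv_mul_cancel₀ (mul_ne_zero (show (4 : ℂ) ≠ 0 by norm_num) hk)] at h
  exact_mod_cast h.symm

open scoped Classical in
theorem hcoef_deg :
    ∑ χ : IrrCharacter G, P.hcoef hv hlam χ * (charDegree (χ : G → ℂ) : ℤ) = 0 := by
  have h := sum_coef_apply (P.H_isClass v lam) (P.hcoef_spec hv hlam) 1
  rw [P.H_one hlam] at h
  have h2 : ((∑ χ : IrrCharacter G, P.hcoef hv hlam χ * (charDegree (χ : G → ℂ) : ℤ) : ℤ) : ℂ) =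
      ((0 : ℤ) : ℂ) := by
    push_cast
    rw [← h]
    exact Finset.sum_congr rfl fun χ _ => by rw [(H83.charDegree_eq χ.2).1]
  exact_mod_cast h2

open scoped Classical in
theorem h1coef_deg :
    ∑ χ : IrrCharacter G, P.h1coef lam χ * (charDegree (χ : G → ℂ) : ℤ) = 0 := by
  have h := sum_coef_apply (P.H1_isClass lam) (P.h1coef_spec lam) 1
  rw [P.H1_one] at h
  have h2 : ((∑ χ : IrrCharacter G, P.h1coef lam χ * (charDegree (χ : G → ℂ) : ℤ) : ℤ) : ℂ) =
      ((0 : ℤ) : ℂ) := by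
    push_cast
    rw [← h]
    exact Finset.sum_congr rfl fun χ _ => by rw [(H83.charDegree_eq χ.2).1]
  exact_mod_cast h2

open scoped Classical in
theorem hcoef_val {t : G} (ht : t * t = 1) (val : IrrCharacter G → ℤ)
    (hval : ∀ χ : IrrCharacter G, (χ : G → ℂ) t = val χ) :
    ∑ χ, P.hcoef hv hlam χ * val χ = 0 := by
  have h := sum_coef_apply (P.H_isClass v lam) (P.hcoef_spec hv hlam) t
  rw [P.H_two hlam v (g := t) (n := 1) (by rw [pow_one, pow_two]; exact ht)] at h
  simp only [hval] at h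
  exact_mod_cast h

open scoped Classical in
include hlam in
theorem h1coef_val {t : G} (ht : t * t = 1) (val : IrrCharacter G → ℤ)
    (hval : ∀ χ : IrrCharacter G, (χ : G → ℂ) t = val χ) :
    ∑ χ, P.h1coef lam χ * val χ = 0 := by
  have h := sum_coef_apply (P.H1_isClass lam) (P.h1coef_spec lam) t
  rw [P.H1_two hlam (g := t) (n := 1) (by rw [pow_one, pow_two]; exact ht)] at h
  simp only [hval] at h
  exact_mod_cast h

open scoped Classical in
theorem hcoef_functional {t : G} (ht : t * t = 1) (ht1 : t ≠ 1)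
    (hconj : ∀ r : G, r * r = 1 → r ≠ 1 → IsConj t r) (val : IrrCharacter G → ℤ)
    (hval : ∀ χ : IrrCharacter G, (χ : G → ℂ) t = val χ) :
    ∑ χ : IrrCharacter G, (P.hcoef hv hlam χ : ℚ) * (val χ : ℚ) ^ 2 /
      (charDegree (χ : G → ℂ) : ℚ) = 0 := by
  have h := P.functional_H hlam ht ht1 hconj hv
  simp only [hval, fun χ : IrrCharacter G => (H83.charDegree_eq χ.2).1, P.hcoef_spec hv hlam] at h
  have h2 : ((∑ χ : IrrCharacter G, (P.hcoef hv hlam χ : ℚ) * (val χ : ℚ) ^ 2 /
      (charDegree (χ : G → ℂ) : ℚ) : ℚ) : ℂ) = ((0 : ℚ) : ℂ) := by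
    push_cast
    exact h
  exact_mod_cast h2

open scoped Classical in
include hlam in
theorem h1coef_functional {t : G} (ht : t * t = 1) (ht1 : t ≠ 1)
    (hconj : ∀ r : G, r * r = 1 → r ≠ 1 → IsConj t r) (val : IrrCharacter G → ℤ)
    (hval : ∀ χ : IrrCharacter G, (χ : G → ℂ) t = val χ) :
    ∑ χ : IrrCharacter G, (P.h1coef lam χ : ℚ) * (val χ : ℚ) ^ 2 /
      (charDegree (χ : G → ℂ) : ℚ) =
      4 * (Nat.card ↥P.K : ℚ) * (Nat.card (centralizer ({t} : Set G)) : ℚ) ^ 2 / Nat.card G := by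
  have h := P.functional_H1 hlam ht ht1 hconj
  simp only [hval, fun χ : IrrCharacter G => (H83.charDegree_eq χ.2).1, P.h1coef_spec lam] at h
  have h2 : ((∑ χ : IrrCharacter G, (P.h1coef lam χ : ℚ) * (val χ : ℚ) ^ 2 /
      (charDegree (χ : G → ℂ) : ℚ) : ℚ) : ℂ) = ((4 * (Nat.card ↥P.K : ℚ) *
        (Nat.card (centralizer ({t} : Set G)) : ℚ) ^ 2 / Nat.card G : ℚ) : ℂ) := by
    push_cast
    exact h
  exact_mod_cast h2

variable {L : Type v} [Group L] [Fintype L] {D : TData G L} {θ : L → ℂ}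

open scoped Classical in
/-- product of the rows of `H v` and `F θ` -/
theorem hcoef_F (h : VanEven θ) {m : ℤ} (hm : classInner (P.H v lam) (D.F θ) = m) :
    ∑ χ, P.hcoef hv hlam χ * D.coef h χ = m :=
  sum_coef_mul (P.H_isClass v lam) (D.isClass_F θ) (P.hcoef_spec hv hlam) (D.coef_spec h) hm

open scoped Classical in
/-- product of the rows of `H₁` and `F θ` -/
theorem h1coef_F (h : VanEven θ) {m : ℤ} (hm : classInner (P.H1 lam) (D.F θ) = m) :
    ∑ χ, P.h1coef lam χ * D.coef h χ = m :=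
  sum_coef_mul (P.H1_isClass lam) (D.isClass_F θ) (P.h1coef_spec lam) (D.coef_spec h) hm

end TorusPair

end Cfsg.Agent.H40.Ward
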