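import Cfsg.Agent.H40.Ward.TorusPair
import Cfsg.Agent.H83.ClassConst

/-!
The three exceptional generalised characters `H v = Ind_T^G(sgn v ⊗ (1 - lam))` of a torus
`T = W × K` with normaliser `T⟨w, u⟩`: values, Gram matrix, inner products with class functions
and the vanishing of the involution-pair functional.
-/

set_option autoImplicit false
set_option linter.unusedSectionVars false
set_option linter.style.haveILetI false

namespace Cfsg.Agent.H40.Ward

open Subgroup Cfsg Cfsg.Agent Cfsg.Agent.CharBasic Cfsg.Agent.CharInduce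
open scoped ComplexConjugate

universe u

variable {G : Type u} [Group G]

namespace TorusPair

variable (P : TorusPair G)

/-- a linear character of `K` adapted to `w`: trivial on the fixed points, not invariant -/
structure Adapted (lam : ↥P.K →* ℂˣ) : Prop where
  ker : ∀ k : ↥P.K, P.w * k * P.w⁻¹ = k → lam k = 1
  move : ∃ k : ↥P.K, lam ⟨P.w * k * P.w⁻¹, P.w_K k k.2⟩ ≠ lam k

/-- the function `sgn v ⊗ (1 - lam)` on the torus -/
noncomputable def phi (v : ↥P.W) (lam : ↥P.K →* ℂˣ) (a : ↥P.T) : ℂ :=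
  P.sgn v (P.equiv.symm a).1 * (1 - (lam (P.equiv.symm a).2 : ℂ))

theorem phi_equiv (v : ↥P.W) (lam : ↥P.K →* ℂˣ) (x : ↥P.W) (k : ↥P.K) :
    P.phi v lam (P.equiv (x, k)) = P.sgn v x * (1 - (lam k : ℂ)) := by
  simp [phi]

theorem phi_isGen [Finite G] {v : ↥P.W} (hv : v ≠ 1) (lam : ↥P.K →* ℂˣ) :
    IsGeneralizedCharacter ↥P.T (P.phi v lam) := by
  let s : ↥P.W →* ℂˣ :=
    { toFun := fun x => Units.mk0 (P.sgn v x) (by unfold sgn; split_ifs <;> simp)
      map_one' := Units.ext (P.sgn_one v)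
      map_mul' := fun x y => Units.ext (P.sgn_mul v x y hv) }
  let a : ↥P.T →* ℂˣ := (s.comp (MonoidHom.fst _ _)).comp P.equiv.symm.toMonoidHom
  let b : ↥P.T →* ℂˣ :=
    ((s.comp (MonoidHom.fst _ _)) * (lam.comp (MonoidHom.snd _ _))).comp P.equiv.symm.toMonoidHom
  have e : P.phi v lam = (fun g => (a g : ℂ)) - fun g => (b g : ℂ) := by
    funext g
    simp [phi, a, b, s, mul_sub]
  rw [e]
  exact ⟨_, _, isCharacter_hom a, isCharacter_hom b, rfl⟩

/-- the exceptional generalised character -/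
noncomputable def H [Fintype G] (v : ↥P.W) (lam : ↥P.K →* ℂˣ) : G → ℂ := indFun P.T (P.phi v lam)

/-- conjugation by a representative as a map of the torus -/
def actT (c : Fin 3 × Fin 2) (a : ↥P.T) : ↥P.T :=
  ⟨P.rep c * a * (P.rep c)⁻¹, P.rep_T c a.2⟩

theorem actT_equiv (c : Fin 3 × Fin 2) (x : ↥P.W) (k : ↥P.K) :
    P.actT c (P.equiv (x, k)) = P.equiv (P.actW c x, P.actK c k) := by
  apply Subtype.ext
  simp only [actT, equiv_coe, actW_coe, actK_coe]
  group

theorem actT_injective (c : Fin 3 × Fin 2) : Function.Injective (P.actT c) := by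
  intro x y h
  have h' := congrArg Subtype.val h
  simp only [actT] at h'
  exact Subtype.ext (mul_left_cancel (mul_right_cancel h'))

theorem two_mul_card : ∃ n : ℕ, Nat.card ↥P.K + 1 = 2 * n := by
  obtain ⟨n, hn⟩ := P.odd
  exact ⟨n + 1, by omega⟩

/-- the `K`-part is a power -/
theorem pow_K {x k : G} (hx : x ∈ P.W) (hk : k ∈ P.K) :
    (x * k) ^ (Nat.card ↥P.K + 1) = k := by
  obtain ⟨n, hn⟩ := P.two_mul_card
  have hkm : k ^ Nat.card ↥P.K = 1 :=
    congrArg Subtype.val (pow_card_eq_one' (x := (⟨k, hk⟩ : ↥P.K)))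
  rw [(P.comm x hx k hk).mul_pow, pow_succ k, hkm, one_mul, hn, pow_mul, pow_two, P.mul_self hx,
    one_pow, one_mul]

variable {lam : ↥P.K →* ℂˣ} (hlam : P.Adapted lam)
include hlam

theorem moved_of_ne {k : ↥P.K} (h : lam k ≠ 1) : P.w * k * P.w⁻¹ ≠ k :=
  fun e => h (hlam.ker k e)

theorem centralizer_eq {k : ↥P.K} (h : lam k ≠ 1) : centralizer ({(k : G)} : Set G) = P.T :=
  le_antisymm (P.cent k k.2 (P.moved_of_ne hlam h)) fun _ ha =>
    mem_centralizer_singleton_iff.2 (P.comm_T ha (P.K_le k.2)).eq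

theorem exists_ne : ∃ k : ↥P.K, lam k ≠ 1 := by
  obtain ⟨k, hk⟩ := hlam.move
  by_contra h
  push Not at h
  exact hk (by rw [h, h])

/-- a conjugation moving an element of the torus into the support normalises the torus -/
theorem exists_rep [Finite G] {g a : G} (ha : a ∈ P.T) (hb : g⁻¹ * a * g ∈ P.T)
    (hne : lam (P.equiv.symm ⟨_, hb⟩).2 ≠ 1) :
    ∃ c : Fin 3 × Fin 2, ∃ τ : ↥P.T, g = P.rep c * τ := by
  obtain ⟨⟨x', k'⟩, he⟩ := P.equiv.surjective ⟨_, hb⟩
  rw [← he, MulEquiv.symm_apply_apply] at hne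
  have he' : (x' : G) * k' = g⁻¹ * a * g := congrArg Subtype.val he
  obtain ⟨x, hx, k, hk, rfl⟩ := P.exists_eq ha
  have hkk : g⁻¹ * k * g = k' := by
    have h1 := congrArg (· ^ (Nat.card ↥P.K + 1)) he'
    simp only [P.pow_K x'.2 k'.2] at h1
    rw [h1, show g⁻¹ * (x * k) * g = g⁻¹ * (x * k) * (g⁻¹)⁻¹ by simp, conj_pow, P.pow_K hx hk]
    simp
  have hcent : ∀ y : G, y ∈ P.T → g⁻¹ * y * g ∈ P.T := by
    intro y hy
    rw [← P.centralizer_eq hlam hne, mem_centralizer_singleton_iff]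
    have hyk : y * k = k * y := (P.comm_T hy (P.K_le hk)).eq
    rw [← hkk, show g⁻¹ * y * g * (g⁻¹ * k * g) = g⁻¹ * (y * k) * g by group,
      show g⁻¹ * k * g * (g⁻¹ * y * g) = g⁻¹ * (k * y) * g by group, hyk]
  have hnorm : ∀ y, y ∈ P.T ↔ g * y * g⁻¹ ∈ P.T := by
    have hf : Function.Surjective (fun y : ↥P.T => (⟨g⁻¹ * y * g, hcent y y.2⟩ : ↥P.T)) :=
      Finite.surjective_of_injective fun a b h => by
        have h' := congrArg Subtype.val h
        exact Subtype.ext (mul_left_cancel (mul_right_cancel h'))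
    intro y
    constructor
    · intro hy
      obtain ⟨z, hz⟩ := hf ⟨y, hy⟩
      have hz' : g⁻¹ * z * g = y := congrArg Subtype.val hz
      rw [← hz', show g * (g⁻¹ * z * g) * g⁻¹ = z by group]
      exact z.2
    · intro hy
      have := hcent _ hy
      rwa [show g⁻¹ * (g * y * g⁻¹) * g = y by group] at this
  obtain ⟨i, hi, j, hj, hij⟩ := P.normaliser g hnorm
  exact ⟨(⟨i, hi⟩, ⟨j, hj⟩), ⟨_, hij⟩, (mul_inv_cancel_left _ _).symm⟩

theorem conj_T {τ a : G} (hτ : τ ∈ P.T) (ha : a ∈ P.T) : τ * a * τ⁻¹ = a := by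
  rw [(P.comm_T hτ ha).eq, mul_inv_cancel_right]

/-- `w` and `w²` act without fixed points on `W` -/
theorem w_pow_fixed {i : ℕ} (hi : i < 3) {x : G} (hx : x ∈ P.W) (hx1 : x ≠ 1)
    (h : P.w ^ i * x * (P.w ^ i)⁻¹ = x) : i = 0 := by
  interval_cases i
  · rfl
  · exact absurd (P.w_fpf x hx (by simpa using h)) hx1
  · refine absurd (P.w_fpf x hx ?_) hx1
    calc P.w * x * P.w⁻¹ = P.w * (P.w ^ 2 * x * (P.w ^ 2)⁻¹) * P.w⁻¹ := by rw [h]
      _ = P.w ^ 3 * x * (P.w ^ 3)⁻¹ := by group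
      _ = x := P.conj_T hlam (show P.w ^ 3 ∈ P.T from P.w_cube) (P.W_le hx)

theorem rep_inj {c c' : Fin 3 × Fin 2} {τ τ' : ↥P.T} (h : P.rep c * τ = P.rep c' * τ') :
    (c, τ) = (c', τ') := by
  have key : ∀ y : G, y ∈ P.T → P.rep c * y * (P.rep c)⁻¹ = P.rep c' * y * (P.rep c')⁻¹ := by
    intro y hy
    have h1 : (P.rep c * τ) * y * (P.rep c * τ)⁻¹ = (P.rep c' * τ') * y * (P.rep c' * τ')⁻¹ := by
      rw [h]
    rwa [show P.rep c * τ * y * (P.rep c * τ)⁻¹ = P.rep c * (τ * y * (τ : G)⁻¹) * (P.rep c)⁻¹ by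
        group,
      show P.rep c' * τ' * y * (P.rep c' * τ')⁻¹ = P.rep c' * (τ' * y * (τ' : G)⁻¹) * (P.rep c')⁻¹ by
        group, P.conj_T hlam τ.2 hy, P.conj_T hlam τ'.2 hy] at h1
  obtain ⟨i, j⟩ := c
  obtain ⟨i', j'⟩ := c'
  haveI := P.klein
  haveI : Finite ↥P.W := Nat.finite_of_card_ne_zero (by rw [IsKleinFour.card_four]; norm_num)
  haveI : Nontrivial ↥P.W := by
    refine (Finite.one_lt_card_iff_nontrivial).1 ?_
    rw [IsKleinFour.card_four]; norm_num
  obtain ⟨⟨x, hx⟩, hx1⟩ := _root_.exists_ne (1 : ↥P.W)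
  have hx1' : x ≠ 1 := fun e => hx1 (Subtype.ext e)
  have hu : ∀ n : Fin 2, P.u ^ (n : ℕ) * x * (P.u ^ (n : ℕ))⁻¹ = x := fun n => by
    fin_cases n
    · simp
    · simpa using P.u_W x hx
  have h1 := key x (P.W_le hx)
  simp only [rep] at h1
  rw [show P.w ^ (i : ℕ) * P.u ^ (j : ℕ) * x * (P.w ^ (i : ℕ) * P.u ^ (j : ℕ))⁻¹ =
      P.w ^ (i : ℕ) * (P.u ^ (j : ℕ) * x * (P.u ^ (j : ℕ))⁻¹) * (P.w ^ (i : ℕ))⁻¹ by group,
    show P.w ^ (i' : ℕ) * P.u ^ (j' : ℕ) * x * (P.w ^ (i' : ℕ) * P.u ^ (j' : ℕ))⁻¹ =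
      P.w ^ (i' : ℕ) * (P.u ^ (j' : ℕ) * x * (P.u ^ (j' : ℕ))⁻¹) * (P.w ^ (i' : ℕ))⁻¹ by group,
    hu, hu] at h1
  have hii : i = i' := by
    have hstep : ∀ a b : ℕ, a ≤ b → b < 3 →
        P.w ^ a * x * (P.w ^ a)⁻¹ = P.w ^ b * x * (P.w ^ b)⁻¹ → a = b := by
      intro a b hab hb he
      have : P.w ^ (b - a) * x * (P.w ^ (b - a))⁻¹ = x := by
        obtain ⟨d, rfl⟩ := Nat.exists_eq_add_of_le hab
        rw [Nat.add_sub_cancel_left]
        rw [pow_add, show P.w ^ a * P.w ^ d * x * (P.w ^ a * P.w ^ d)⁻¹ =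
          P.w ^ a * (P.w ^ d * x * (P.w ^ d)⁻¹) * (P.w ^ a)⁻¹ by group] at he
        exact (mul_left_cancel (mul_right_cancel he)).symm
      have := P.w_pow_fixed hlam (show b - a < 3 by omega) hx hx1' this
      omega
    rcases le_total (i : ℕ) i' with hle | hle
    · exact Fin.ext (hstep _ _ hle i'.2 h1)
    · exact Fin.ext (hstep _ _ hle i.2 h1.symm).symm
  subst hii
  obtain ⟨k, hk⟩ := P.exists_ne hlam
  have h2 := key k (P.K_le k.2)
  simp only [rep] at h2
  rw [show P.w ^ (i : ℕ) * P.u ^ (j : ℕ) * k * (P.w ^ (i : ℕ) * P.u ^ (j : ℕ))⁻¹ =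
      P.w ^ (i : ℕ) * (P.u ^ (j : ℕ) * k * (P.u ^ (j : ℕ))⁻¹) * (P.w ^ (i : ℕ))⁻¹ by group,
    show P.w ^ (i : ℕ) * P.u ^ (j' : ℕ) * k * (P.w ^ (i : ℕ) * P.u ^ (j' : ℕ))⁻¹ =
      P.w ^ (i : ℕ) * (P.u ^ (j' : ℕ) * k * (P.u ^ (j' : ℕ))⁻¹) * (P.w ^ (i : ℕ))⁻¹ by group] at h2
  have h3 := mul_left_cancel (mul_right_cancel h2)
  have hkinv : (k : G)⁻¹ ≠ k := fun e => hk (by
    have e2 : (k : G) * k = 1 := by nth_rewrite 1 [← e]; exact inv_mul_cancel _
    obtain ⟨n, hn⟩ := P.odd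
    have hkm : (k : G) ^ Nat.card ↥P.K = 1 := congrArg Subtype.val (pow_card_eq_one' (x := k))
    rw [hn, pow_succ, pow_mul, pow_two, e2, one_pow, one_mul] at hkm
    rw [show k = 1 from Subtype.ext hkm, map_one])
  have hjj : j = j' := by
    fin_cases j <;> fin_cases j'
    · rfl
    · exact absurd (by simpa [P.u_K k k.2] using h3.symm) hkinv
    · exact absurd (by simpa [P.u_K k k.2] using h3) hkinv
    · rfl
  subst hjj
  exact Prod.ext rfl (Subtype.ext (mul_left_cancel h))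

variable [Fintype G]

/-- values on the torus -/
theorem ind_apply_actT (ψ : ↥P.T → ℂ) (hψ : ∀ a, lam (P.equiv.symm a).2 = 1 → ψ a = 0)
    (a : ↥P.T) : indFun P.T ψ (a : G) = ∑ c : Fin 3 × Fin 2,
      extendByZero P.T ψ ((P.rep c)⁻¹ * a * P.rep c) := by
  classical
  haveI : Fintype ↥P.T := Fintype.ofFinite _
  rw [indFun_apply]
  set f : G → ℂ := fun g => extendByZero P.T ψ (g⁻¹ * a * g) with hf
  have hsum : ∑ g : G, f g = ∑ p : (Fin 3 × Fin 2) × ↥P.T, f (P.rep p.1 * p.2) := by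
    have himg := Finset.sum_image (s := (Finset.univ : Finset ((Fin 3 × Fin 2) × ↥P.T)))
      (f := f) (g := fun p => P.rep p.1 * p.2) fun p _ p' _ h => P.rep_inj hlam h
    rw [← himg]
    refine (Finset.sum_subset (Finset.subset_univ _) fun g _ hg => ?_).symm
    by_contra hne
    have hmem : g⁻¹ * a * g ∈ P.T := by
      by_contra h
      exact hne (extendByZero_of_not_mem _ h)
    have hl : lam (P.equiv.symm ⟨_, hmem⟩).2 ≠ 1 := fun e => hne (by
      simp only [hf]
      rw [extendByZero_of_mem _ hmem, hψ _ e])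
    obtain ⟨c, τ, hg'⟩ := P.exists_rep hlam a.2 hmem hl
    exact hg (Finset.mem_image.2 ⟨(c, τ), Finset.mem_univ _, hg'.symm⟩)
  rw [hsum, Fintype.sum_prod_type, Finset.mul_sum]
  refine Finset.sum_congr rfl fun c _ => ?_
  have hconst : ∀ τ : ↥P.T, f (P.rep c * τ) =
      extendByZero P.T ψ ((P.rep c)⁻¹ * a * P.rep c) := by
    intro τ
    obtain ⟨b, hb⟩ := Finite.surjective_of_injective (P.actT_injective c) a
    have hb' : P.rep c * b * (P.rep c)⁻¹ = (a : G) := congrArg Subtype.val hb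
    simp only [hf]
    congr 1
    rw [← hb', show (P.rep c * τ)⁻¹ * (P.rep c * b * (P.rep c)⁻¹) * (P.rep c * τ) =
      ((τ : G)⁻¹) * b * ((τ : G)⁻¹)⁻¹ by group, P.conj_T hlam (inv_mem τ.2) b.2]
    group
  rw [Finset.sum_congr rfl fun τ _ => hconst τ, Finset.sum_const, Finset.card_univ,
    ← Nat.card_eq_fintype_card, nsmul_eq_mul, ← mul_assoc, inv_mul_cancel₀ (by simp), one_mul]

theorem H_apply_actT (v : ↥P.W) (a : ↥P.T) :
    P.H v lam (a : G) = ∑ c : Fin 3 × Fin 2,
      extendByZero P.T (P.phi v lam) ((P.rep c)⁻¹ * a * P.rep c) :=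
  P.ind_apply_actT hlam _ (fun b e => by simp [phi, e]) a

theorem H_one (v : ↥P.W) : P.H v lam 1 = 0 := by
  rw [H, indFun_one, phi, map_one]
  simp

theorem H_isGen {v : ↥P.W} (hv : v ≠ 1) : IsGeneralizedCharacter G (P.H v lam) := by
  haveI : Fintype ↥P.T := Fintype.ofFinite _
  exact IsGen.ind P.T (P.phi_isGen hv lam)

/-- elements of two-power order are zeros -/
theorem H_two (v : ↥P.W) {g : G} {n : ℕ} (hg : g ^ 2 ^ n = 1) : P.H v lam g = 0 := by
  rw [H, indFun_apply, Finset.sum_eq_zero, mul_zero]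
  intro y _
  by_cases hy : y⁻¹ * g * y ∈ P.T
  · obtain ⟨⟨x, k⟩, he⟩ := P.equiv.surjective ⟨_, hy⟩
    have hk : k = 1 := by
      have he' : (x : G) * k = y⁻¹ * g * y := congrArg Subtype.val he
      have h1 := congrArg (· ^ 2 ^ (n + 1)) he'
      simp only [(P.comm x x.2 k k.2).mul_pow] at h1
      rw [show (x : G) ^ 2 ^ (n + 1) = 1 by
          rw [pow_succ', pow_mul, pow_two, P.mul_self x.2, one_pow], one_mul,
        show y⁻¹ * g * y = y⁻¹ * g * (y⁻¹)⁻¹ by simp, conj_pow,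
        show g ^ 2 ^ (n + 1) = 1 by rw [pow_succ 2 n, pow_mul, hg, one_pow],
        mul_one, mul_inv_cancel] at h1
      exact Subtype.ext (orderOf_eq_one_iff.1 (Nat.eq_one_of_dvd_coprimes
        (Nat.Coprime.pow_left (n + 1) (Nat.coprime_two_left.2 P.odd)) (orderOf_dvd_of_pow_eq_one h1)
        (Subgroup.orderOf_dvd_natCard _ k.2)))
    rw [extendByZero_of_mem _ hy, ← he, P.phi_equiv, hk, map_one, Units.val_one, sub_self, mul_zero]
  · exact extendByZero_of_not_mem _ hy

omit hlam in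
/-- Frobenius reciprocity on the torus -/
theorem classInner_H [Fintype ↥P.W] [Fintype ↥P.K] (v : ↥P.W) (lam : ↥P.K →* ℂˣ) {f : G → ℂ}
    (hf : IsClassFunction G f) :
    classInner (P.H v lam) f = ((4 : ℂ) * Nat.card ↥P.K)⁻¹ *
      ∑ x : ↥P.W, ∑ k : ↥P.K, P.sgn v x * (1 - (lam k : ℂ)) * conj (f ((x : G) * k)) := by
  haveI : Fintype ↥P.T := Fintype.ofFinite _
  haveI := P.klein
  rw [H, classInner_indFun_left _ _ _ hf, ← classInner_comp_mulEquiv P.equiv, classInner_def,
    Nat.card_prod, IsKleinFour.card_four, Fintype.sum_prod_type]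
  push_cast
  simp only [phi_equiv, equiv_coe]

theorem lam_actK_ne (i : Fin 3) (j : Fin 2) (h : ¬ (i = 0 ∧ j = 0)) :
    lam.comp (P.actK (i, j)) ≠ lam := by
  obtain ⟨k0, hk0⟩ := hlam.move
  intro he
  have hK : ∀ k : ↥P.K, lam (P.actK (i, j) k) = lam k := fun k => DFunLike.congr_fun he k
  -- conjugation by `w`
  let ω : ↥P.K → ↥P.K := fun k => ⟨P.w * k * P.w⁻¹, P.w_K k k.2⟩
  have hw3 : ∀ k : ↥P.K, ω (ω (ω k)) = k := fun k => Subtype.ext (by
    show P.w * (P.w * (P.w * k * P.w⁻¹) * P.w⁻¹) * P.w⁻¹ = k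
    rw [show P.w * (P.w * (P.w * k * P.w⁻¹) * P.w⁻¹) * P.w⁻¹ = P.w ^ 3 * k * (P.w ^ 3)⁻¹ by
      rw [pow_succ, pow_two]; group]
    exact P.conj_T hlam (show P.w ^ 3 ∈ P.T from P.w_cube) (P.K_le k.2))
  have hsq : ∀ z : ↥P.K, lam z = (lam z)⁻¹ → lam z = 1 := fun z hz => by
    have e2 : lam z * lam z = 1 := by nth_rewrite 1 [hz]; exact inv_mul_cancel _
    obtain ⟨n, hn⟩ := P.odd
    have hkm : lam z ^ Nat.card ↥P.K = 1 := by rw [← map_pow, pow_card_eq_one', map_one]
    rwa [hn, pow_succ, pow_mul, pow_two, e2, one_pow, one_mul] at hkm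
  have act0 : ∀ k, P.actK (0, 1) k = k⁻¹ := fun k => Subtype.ext (by
    simp [rep, P.u_K k k.2])
  have act1 : ∀ k, P.actK (1, 0) k = ω k := fun k => Subtype.ext (by simp [rep, ω])
  have act11 : ∀ k, P.actK (1, 1) k = (ω k)⁻¹ := fun k => Subtype.ext (by
    simp only [actK_coe, rep, ω, InvMemClass.coe_inv, Fin.val_one, pow_one]
    rw [show P.w * P.u * k * (P.w * P.u)⁻¹ = P.w * (P.u * k * P.u⁻¹) * P.w⁻¹ by group,
      P.u_K k k.2]
    group)
  have act2 : ∀ k, P.actK (2, 0) k = ω (ω k) := fun k => Subtype.ext (by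
    simp only [actK_coe, rep, ω, Fin.val_two, Fin.val_zero, pow_zero, mul_one, pow_two]
    group)
  have act21 : ∀ k, P.actK (2, 1) k = (ω (ω k))⁻¹ := fun k => Subtype.ext (by
    simp only [actK_coe, rep, ω, InvMemClass.coe_inv, Fin.val_one, pow_one]
    simp only [Fin.val_two]
    rw [show P.w ^ 2 * P.u * k * (P.w ^ 2 * P.u)⁻¹ =
      P.w ^ 2 * (P.u * k * P.u⁻¹) * (P.w ^ 2)⁻¹ by group, P.u_K k k.2]
    simp only [pow_two, mul_inv_rev, inv_inv, mul_assoc])
  apply hk0
  show lam (ω k0) = lam k0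
  fin_cases i <;> fin_cases j
  · exact absurd ⟨rfl, rfl⟩ h
  · have h1 : ∀ k, lam k = 1 := fun k => hsq k (by
      have := hK k; simp only [Fin.zero_eta, Fin.mk_one, act0, map_inv] at this; exact this.symm)
    rw [h1, h1]
  · have := hK k0; simpa [act1] using this
  · have h1 : ∀ k, lam (ω k) = (lam k)⁻¹ := fun k => by
      have := hK k
      simp only [Fin.mk_one, act11, map_inv] at this
      rw [← inv_inv (lam (ω k)), this]
    have h2 : ∀ k, lam k = 1 := fun k => hsq k (by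
      have := h1 (ω (ω k)); rwa [hw3, h1, inv_inv, h1] at this)
    rw [h2, h2]
  · have := hK (ω k0)
    simp only [Fin.reduceFinMk, Fin.zero_eta, act2, hw3] at this
    exact this.symm
  · have h1 : ∀ k, lam (ω (ω k)) = (lam k)⁻¹ := fun k => by
      have := hK k
      simp only [Fin.reduceFinMk, Fin.mk_one, act21, map_inv] at this
      rw [← inv_inv (lam (ω (ω k))), this]
    have h2 : ∀ k, lam k = 1 := fun k => hsq k (by
      have e1 := h1 (ω k)
      rw [hw3] at e1
      have e2 := h1 (ω (ω k))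
      rw [hw3, h1 k, inv_inv] at e2
      rw [e2] at e1
      exact e1)
    rw [h2, h2]

/-- the Gram matrix -/
theorem classInner_H_H {v v' : ↥P.W} (hv : v ≠ 1) (hv' : v' ≠ 1) :
    classInner (P.H v lam) (P.H v' lam) = open Classical in if v = v' then 3 else 2 := by
  classical
  haveI : Fintype ↥P.T := Fintype.ofFinite _
  haveI : Fintype ↥P.W := Fintype.ofFinite _
  haveI : Fintype ↥P.K := Fintype.ofFinite _
  haveI := P.klein
  rw [H, H, classInner_indFun_left _ _ _ (isClassFunction_indFun _ _)]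
  -- the six terms
  have hterm : classInner (P.phi v lam) (fun a : ↥P.T => indFun P.T (P.phi v' lam) (a : G)) =
      ∑ c : Fin 3 × Fin 2, classInner (fun b => P.phi v lam (P.actT c b)) (P.phi v' lam) := by
    have hH : ∀ a : ↥P.T, indFun P.T (P.phi v' lam) (a : G) = ∑ c : Fin 3 × Fin 2,
        extendByZero P.T (P.phi v' lam) ((P.rep c)⁻¹ * a * P.rep c) := fun a =>
      P.H_apply_actT hlam v' a
    simp only [classInner_def, hH, map_sum, Finset.mul_sum]
    rw [Finset.sum_comm]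
    refine Finset.sum_congr rfl fun c _ => ?_
    have hb : Function.Bijective (P.actT c) :=
      ⟨P.actT_injective c, Finite.surjective_of_injective (P.actT_injective c)⟩
    refine (Fintype.sum_bijective _ hb _ _ fun b => ?_).symm
    congr 3
    rw [show (P.rep c)⁻¹ * (P.actT c b : G) * P.rep c = (b : G) by simp [actT]; group,
      extendByZero_coe]
  rw [hterm]
  have hone : ∀ c : Fin 3 × Fin 2, ∀ v0 : ↥P.W, P.actW c v0 = v →
      classInner (fun b => P.phi v lam (P.actT c b)) (P.phi v' lam) =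
        if v0 = v' then (1 + if lam.comp (P.actK c) = lam then 1 else 0) else 0 := by
    intro c v0 hv0
    have hv01 : v0 ≠ 1 := fun e => hv (by rw [← hv0, e, map_one])
    rw [← classInner_comp_mulEquiv P.equiv]
    have e1 : (fun y : ↥P.W × ↥P.K => P.phi v lam (P.actT c (P.equiv y))) =
        fun y => P.sgn v0 y.1 * (1 - (lam (P.actK c y.2) : ℂ)) := by
      funext y
      rw [P.actT_equiv c y.1 y.2, P.phi_equiv, ← hv0, P.sgn_actW]
    have e2 : (fun y : ↥P.W × ↥P.K => P.phi v' lam (P.equiv y)) =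
        fun y => P.sgn v' y.1 * (1 - (lam y.2 : ℂ)) := funext fun y => P.phi_equiv v' lam y.1 y.2
    rw [e1, e2, classInner_outer (P.sgn v0) (P.sgn v') (fun k => 1 - (lam (P.actK c k) : ℂ))
      (fun k => 1 - (lam k : ℂ)), classInner_def, classInner_def]
    simp only [P.sgn_conj, P.sum_sgn_mul hv01 hv', IsKleinFour.card_four]
    have hk : (Nat.card ↥P.K : ℂ) ≠ 0 := by simp
    split_ifs with h1 h2
    · rw [Finset.sum_congr rfl fun k _ => show (1 - (lam (P.actK c k) : ℂ)) * conj (1 - (lam k : ℂ)) =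
        2 - (lam k : ℂ) - ((lam⁻¹ : ↥P.K →* ℂˣ) k : ℂ) by
          rw [show lam (P.actK c k) = lam k from DFunLike.congr_fun h2 k]
          have hn := norm_hom lam k
          have hmul : (lam k : ℂ) * conj (lam k : ℂ) = 1 := by rw [Complex.mul_conj', hn]; norm_num
          have hinv : conj (lam k : ℂ) = ((lam⁻¹ : ↥P.K →* ℂˣ) k : ℂ) := by
            rw [MonoidHom.inv_apply, Units.val_inv_eq_inv_val, eq_inv_of_mul_eq_one_right hmul]
          simp only [map_sub, map_one]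
          rw [← hinv]
          linear_combination hmul]
      obtain ⟨k0, hk0⟩ := P.exists_ne hlam
      have hl1 : lam ≠ 1 := fun e => hk0 (by rw [e]; rfl)
      rw [Finset.sum_sub_distrib, Finset.sum_sub_distrib, P.sum_hom lam, P.sum_hom lam⁻¹,
        if_neg hl1, if_neg (fun e => hl1 (MonoidHom.ext fun k => by simpa using DFunLike.congr_fun e k)), Finset.sum_const, Finset.card_univ,
        ← Nat.card_eq_fintype_card, nsmul_eq_mul]
      push_cast
      field_simp
      ring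
    · set μ : ↥P.K →* ℂˣ := lam.comp (P.actK c) with hμ
      rw [Finset.sum_congr rfl fun k _ => show (1 - (lam (P.actK c k) : ℂ)) * conj (1 - (lam k : ℂ)) =
        1 - (μ k : ℂ) - ((lam⁻¹ : ↥P.K →* ℂˣ) k : ℂ) + ((μ * lam⁻¹ : ↥P.K →* ℂˣ) k : ℂ) by
          have hn := norm_hom lam k
          have hmul : (lam k : ℂ) * conj (lam k : ℂ) = 1 := by rw [Complex.mul_conj', hn]; norm_num
          have hinv : conj (lam k : ℂ) = ((lam k : ℂ))⁻¹ := eq_inv_of_mul_eq_one_right hmul
          simp only [map_sub, map_one, hinv, MonoidHom.inv_apply, MonoidHom.mul_apply,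
            Units.val_mul, Units.val_inv_eq_inv_val, hμ, MonoidHom.comp_apply]
          ring]
      obtain ⟨k0, hk0⟩ := P.exists_ne hlam
      have hl1 : lam ≠ 1 := fun e => hk0 (by rw [e]; rfl)
      have hμ1 : μ ≠ 1 := fun e => hl1 (MonoidHom.ext fun k => by
        obtain ⟨k', rfl⟩ := Finite.surjective_of_injective (f := P.actK c) (fun a b hab => by
          have h' := congrArg Subtype.val hab
          simp only [actK_coe] at h'
          exact Subtype.ext (mul_left_cancel (mul_right_cancel h'))) k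
        exact DFunLike.congr_fun e k')
      rw [Finset.sum_add_distrib, Finset.sum_sub_distrib, Finset.sum_sub_distrib, P.sum_hom μ,
        P.sum_hom lam⁻¹, P.sum_hom (μ * lam⁻¹), if_neg hμ1, if_neg (fun e => hl1 (MonoidHom.ext fun k => by simpa using DFunLike.congr_fun e k)),
        if_neg (fun e => h2 (mul_inv_eq_one.1 e)), Finset.sum_const, Finset.card_univ,
        ← Nat.card_eq_fintype_card, nsmul_eq_mul]
      push_cast
      field_simp
      ring
    · simp
  -- preimages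
  have hsur : ∀ c, ∃ v0, P.actW c v0 = v := fun c =>
    Finite.surjective_of_injective (P.actW_injective c) v
  choose V hV using hsur
  rw [Finset.sum_congr rfl fun c _ => hone c (V c) (hV c)]
  have hu : ∀ (x : ↥P.W) (i : Fin 3), P.actW (i, 1) x = P.actW (i, 0) x := fun x i => Subtype.ext (by
    simp only [actW_coe, rep, Fin.val_one, pow_one, Fin.val_zero, pow_zero, mul_one]
    rw [show P.w ^ (i : ℕ) * P.u * x * (P.w ^ (i : ℕ) * P.u)⁻¹ =
      P.w ^ (i : ℕ) * (P.u * x * P.u⁻¹) * (P.w ^ (i : ℕ))⁻¹ by group, P.u_W x x.2])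
  have hV1 : ∀ i, V (i, 1) = V (i, 0) := fun i => P.actW_injective (i, 0) (by
    rw [hV, ← hu, hV])
  have h00 : V (0, 0) = v := by
    have e := congrArg Subtype.val (hV (0, 0))
    simpa [rep] using e
  have hid : lam.comp (P.actK (0, 0)) = lam :=
    MonoidHom.ext fun k => congrArg lam (Subtype.ext (by simp [rep]))
  have hne : ∀ i j, ¬ (i = 0 ∧ j = 0) → lam.comp (P.actK (i, j)) ≠ lam := P.lam_actK_ne hlam
  -- the three preimages are the three involutions
  have hinj : Function.Injective fun i : Fin 3 => V (i, 0) := by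
    intro a b hab
    simp only at hab
    have e := congrArg Subtype.val ((hV (a, 0)).trans (hV (b, 0)).symm)
    rw [← hab] at e
    simp only [actW_coe, rep, Fin.val_zero, pow_zero, mul_one] at e
    have hx1 : (V (a, 0) : G) ≠ 1 := fun h => hv (by
      rw [← hV (a, 0), show V (a, 0) = 1 from Subtype.ext h, map_one])
    have hstep : ∀ m n : ℕ, m ≤ n → n < 3 → P.w ^ m * (V (a, 0) : G) * (P.w ^ m)⁻¹ =
        P.w ^ n * (V (a, 0) : G) * (P.w ^ n)⁻¹ → m = n := by
      intro m n hmn hn he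
      obtain ⟨d, rfl⟩ := Nat.exists_eq_add_of_le hmn
      rw [pow_add, show P.w ^ m * P.w ^ d * (V (a, 0) : G) * (P.w ^ m * P.w ^ d)⁻¹ =
        P.w ^ m * (P.w ^ d * (V (a, 0) : G) * (P.w ^ d)⁻¹) * (P.w ^ m)⁻¹ by group] at he
      have := P.w_pow_fixed hlam (show d < 3 by omega) (V (a, 0)).2 hx1
        (mul_left_cancel (mul_right_cancel he)).symm
      omega
    rcases le_total (a : ℕ) b with hle | hle
    · exact Fin.ext (hstep _ _ hle b.2 e)
    · exact Fin.ext (hstep _ _ hle a.2 e.symm).symm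
  have hne1 : ∀ i, V (i, 0) ≠ 1 := fun i h => hv (by rw [← hV (i, 0), h, map_one])
  have hcover : ∃ i : Fin 3, V (i, 0) = v' := by
    by_contra hc
    push Not at hc
    have hsub : insert v' (insert 1 (Finset.univ.image fun i : Fin 3 => V (i, 0))) ⊆
        (Finset.univ : Finset ↥P.W) := Finset.subset_univ _
    have h1 := Finset.card_le_card hsub
    rw [Finset.card_insert_of_notMem, Finset.card_insert_of_notMem, Finset.card_image_of_injective _ hinj,
      Finset.card_univ, Finset.card_univ, Fintype.card_fin, ← Nat.card_eq_fintype_card,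
      IsKleinFour.card_four] at h1
    · omega
    · simp only [Finset.mem_image, Finset.mem_univ, true_and, not_exists]
      exact hne1
    · simp only [Finset.mem_insert, Finset.mem_image, Finset.mem_univ, true_and, not_or, not_exists]
      exact ⟨hv', hc⟩
  obtain ⟨i0, hi0⟩ := hcover
  have hiff : ∀ i, (V (i, 0) = v') ↔ i = i0 := fun i =>
    ⟨fun h => hinj (h.trans hi0.symm), fun h => h ▸ hi0⟩
  have hv00 : v = v' ↔ i0 = 0 := by rw [← h00, hiff, eq_comm]
  rw [Fintype.sum_prod_type]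
  simp only [Fin.sum_univ_two, hV1, hiff, Finset.sum_add_distrib, Finset.sum_ite_eq',
    Finset.mem_univ, if_true, hv00]
  by_cases hi : i0 = 0
  · subst hi
    rw [if_pos hid, if_neg (hne 0 1 (by simp)), if_pos rfl]
    norm_num
  · rw [if_neg (hne i0 0 fun h => hi h.1), if_neg (hne i0 1 fun h => hi h.1), if_neg hi]
    norm_num

end TorusPair

end Cfsg.Agent.H40.Ward
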