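import Cfsg.Agent.H40.Ward.TorusInner
import Cfsg.Agent.H83.ClassConst

/-!
The pairs of involutions with product in a moved coset of a torus, and the resulting vanishing of
the structure functional on the exceptional functions.
-/

set_option autoImplicit false
set_option linter.unusedSectionVars false
set_option linter.style.haveILetI false

namespace Cfsg.Agent.H40.Ward

open Subgroup Cfsg Cfsg.Agent Cfsg.Agent.CharBasic Cfsg.Agent.CharInduce
open scoped ComplexConjugate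

universe u

variable {G : Type u} [Group G]

namespace TorusPair

variable (P : TorusPair G) {lam : ↥P.K →* ℂˣ} (hlam : P.Adapted lam)
include hlam

/-- an involution inverting an element of the support lies in `u T` -/
theorem mem_u_coset [Finite G] {y : G} (hy : y * y = 1) {x : ↥P.W} {k : ↥P.K} (hk : lam k ≠ 1)
    (hinv : y * ((x : G) * k) * y⁻¹ = ((x : G) * k)⁻¹) : ∃ τ : ↥P.T, y = P.u * τ := by
  have ha : (x : G) * k ∈ P.T := mul_mem (P.W_le x.2) (P.K_le k.2)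
  have hyi : y⁻¹ = y := inv_eq_of_mul_eq_one_left hy
  have hb : y⁻¹ * ((x : G) * k) * y = ((x : G) * k)⁻¹ := by rw [hyi]; rwa [hyi] at hinv
  have hb' : y⁻¹ * ((x : G) * k) * y ∈ P.T := hb ▸ inv_mem ha
  have he : P.equiv.symm ⟨_, hb'⟩ = (x⁻¹, k⁻¹) := by
    rw [MulEquiv.symm_apply_eq]
    apply Subtype.ext
    simp only [hb, equiv_coe, InvMemClass.coe_inv, mul_inv_rev]
    exact ((P.comm x x.2 k k.2).symm.inv_inv).eq
  have hne : lam (P.equiv.symm ⟨_, hb'⟩).2 ≠ 1 := by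
    rw [he]
    simpa using hk
  obtain ⟨⟨i, j⟩, τ, hg⟩ := P.exists_rep hlam ha hb' hne
  refine ⟨τ, ?_⟩
  suffices hij : i = 0 ∧ j = 1 by
    rw [hg, hij.1, hij.2]
    simp [rep]
  -- `y` inverts `k`
  have hinvk : y * (k : G) * y⁻¹ = (k : G)⁻¹ := by
    have h := congrArg (· ^ (Nat.card ↥P.K + 1)) hinv
    simp only [conj_pow, inv_pow, P.pow_K x.2 k.2] at h
    exact h
  have hc : P.rep (i, j) * (k : G) * (P.rep (i, j))⁻¹ = (k : G)⁻¹ := by
    rw [hg, show P.rep (i, j) * τ * k * (P.rep (i, j) * τ)⁻¹ =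
      P.rep (i, j) * (τ * k * (τ : G)⁻¹) * (P.rep (i, j))⁻¹ by group,
      P.conj_T hlam τ.2 (P.K_le k.2)] at hinvk
    exact hinvk
  have hmv : P.w * k * P.w⁻¹ ≠ k := P.moved_of_ne hlam hk
  have hw3 : ∀ z : G, z ∈ P.K → P.w ^ 3 * z * (P.w ^ 3)⁻¹ = z := fun z hz =>
    P.conj_T hlam (show P.w ^ 3 ∈ P.T from P.w_cube) (P.K_le hz)
  have hk2 : (k : G) ≠ (k : G)⁻¹ := fun e => by
    have e2 : (k : G) * k = 1 := by nth_rewrite 1 [e]; exact inv_mul_cancel _
    obtain ⟨n, hn⟩ := P.odd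
    have hkm : (k : G) ^ Nat.card ↥P.K = 1 := congrArg Subtype.val (pow_card_eq_one' (x := k))
    rw [hn, pow_succ, pow_mul, pow_two, e2, one_pow, one_mul] at hkm
    exact hk (by rw [show k = 1 from Subtype.ext hkm, map_one])
  fin_cases i <;> fin_cases j
  · exact absurd (by simpa [rep] using hc) hk2
  · exact ⟨rfl, rfl⟩
  · exfalso
    simp only [rep, Fin.mk_one, Fin.zero_eta, Fin.val_one, Fin.val_zero, pow_one, pow_zero,
      mul_one] at hc
    have h1 : P.w * (k : G)⁻¹ * P.w⁻¹ = (k : G) := by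
      rw [show P.w * (k : G)⁻¹ * P.w⁻¹ = (P.w * (k : G) * P.w⁻¹)⁻¹ by group, hc, inv_inv]
    have h3 := hw3 k k.2
    rw [show P.w ^ 3 * (k : G) * (P.w ^ 3)⁻¹ = P.w * (P.w * (P.w * k * P.w⁻¹) * P.w⁻¹) * P.w⁻¹ by
      rw [pow_succ, pow_two]; group, hc, h1, hc] at h3
    exact hk2 h3.symm
  · exfalso
    simp only [rep, Fin.mk_one, Fin.val_one, pow_one] at hc
    rw [show P.w * P.u * (k : G) * (P.w * P.u)⁻¹ = P.w * (P.u * k * P.u⁻¹) * P.w⁻¹ by group,
      P.u_K k k.2, show P.w * (k : G)⁻¹ * P.w⁻¹ = (P.w * (k : G) * P.w⁻¹)⁻¹ by group, inv_inj] at hc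
    exact hmv hc
  · exfalso
    simp only [rep, Fin.reduceFinMk, Fin.zero_eta, Fin.val_two, Fin.val_zero, pow_zero,
      mul_one] at hc
    have h1 : P.w ^ 2 * (k : G)⁻¹ * (P.w ^ 2)⁻¹ = (k : G) := by
      rw [show P.w ^ 2 * (k : G)⁻¹ * (P.w ^ 2)⁻¹ = (P.w ^ 2 * (k : G) * (P.w ^ 2)⁻¹)⁻¹ by group,
        hc, inv_inv]
    have h3 := hw3 (P.w * k * P.w⁻¹) (P.w_K k k.2)
    have h4 : P.w * k * P.w⁻¹ = P.w ^ 3 * (P.w * k * P.w⁻¹) * (P.w ^ 3)⁻¹ := h3.symm
    rw [show P.w ^ 3 * (P.w * (k : G) * P.w⁻¹) * (P.w ^ 3)⁻¹ =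
      P.w ^ 2 * (P.w ^ 2 * k * (P.w ^ 2)⁻¹) * (P.w ^ 2)⁻¹ by group, hc, h1] at h4
    exact hmv h4
  · exfalso
    simp only [rep, Fin.reduceFinMk, Fin.mk_one, Fin.val_two, Fin.val_one, pow_one] at hc
    rw [show P.w ^ 2 * P.u * (k : G) * (P.w ^ 2 * P.u)⁻¹ =
        P.w ^ 2 * (P.u * k * P.u⁻¹) * (P.w ^ 2)⁻¹ by group,
      P.u_K k k.2, show P.w ^ 2 * (k : G)⁻¹ * (P.w ^ 2)⁻¹ = (P.w ^ 2 * (k : G) * (P.w ^ 2)⁻¹)⁻¹ by
        group, inv_inj] at hc
    have h3 := hw3 k k.2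
    rw [show P.w ^ 3 * (k : G) * (P.w ^ 3)⁻¹ = P.w * (P.w ^ 2 * k * (P.w ^ 2)⁻¹) * P.w⁻¹ by group,
      hc] at h3
    exact hmv h3

/-- the pairs with product `x k` correspond to `T` -/
theorem card_pairs [Finite G] {t : G} (ht : t * t = 1) (ht1 : t ≠ 1)
    (hconj : ∀ r : G, r * r = 1 → r ≠ 1 → IsConj t r) (x : ↥P.W) {k : ↥P.K} (hk : lam k ≠ 1) :
    Nat.card {y : G // IsConj t y ∧ IsConj t (y⁻¹ * ((x : G) * k))} = Nat.card ↥P.T := by
  have huinv : P.u⁻¹ = P.u := inv_eq_of_mul_eq_one_left P.u_sq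
  have huT : P.u ∉ P.T := fun h => by
    have e := P.conj_T hlam h (P.K_le k.2)
    rw [P.u_K k k.2] at e
    have e2 : (k : G) * k = 1 := by nth_rewrite 1 [← e]; exact inv_mul_cancel _
    obtain ⟨n, hn⟩ := P.odd
    have hkm : (k : G) ^ Nat.card ↥P.K = 1 := congrArg Subtype.val (pow_card_eq_one' (x := k))
    rw [hn, pow_succ, pow_mul, pow_two, e2, one_pow, one_mul] at hkm
    exact hk (by rw [show k = 1 from Subtype.ext hkm, map_one])
  have hinvol : ∀ τ : G, τ ∈ P.T → IsConj t (P.u * τ) := by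
    intro τ hτ
    obtain ⟨y, hy, l, hl, rfl⟩ := P.exists_eq hτ
    refine hconj _ ?_ fun h => huT ?_
    · have e1 : P.u * (y * l) * P.u⁻¹ = y * l⁻¹ := by
        rw [show P.u * (y * l) * P.u⁻¹ = (P.u * y * P.u⁻¹) * (P.u * l * P.u⁻¹) by group,
          P.u_W y hy, P.u_K l hl]
      rw [huinv] at e1
      rw [show P.u * (y * l) * (P.u * (y * l)) = P.u * (y * l) * P.u * (y * l) by group, e1,
        show y * l⁻¹ * (y * l) = y * (l⁻¹ * y) * l by group, ← ((P.comm y hy l hl).inv_right).eq,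
        show y * (y * l⁻¹) * l = y * y by group, P.mul_self hy]
    · rw [eq_inv_of_mul_eq_one_left h]
      exact inv_mem (mul_mem (P.W_le hy) (P.K_le hl))
  have ha : (x : G) * k ∈ P.T := mul_mem (P.W_le x.2) (P.K_le k.2)
  let f : ↥P.T → {y : G // IsConj t y ∧ IsConj t (y⁻¹ * ((x : G) * k))} := fun τ =>
    ⟨P.u * τ, hinvol τ τ.2, by
      have h2 : (P.u * (τ : G))⁻¹ = P.u * τ := by
        obtain ⟨c, hc⟩ := isConj_iff.1 (hinvol τ τ.2)
        refine inv_eq_of_mul_eq_one_left ?_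
        rw [← hc, show c * t * c⁻¹ * (c * t * c⁻¹) = c * (t * t) * c⁻¹ by group, ht]
        group
      rw [h2, mul_assoc]
      exact hinvol _ (mul_mem τ.2 ha)⟩
  refine (Nat.card_congr (Equiv.ofBijective f ⟨?_, ?_⟩)).symm
  · intro a b hab
    exact Subtype.ext (mul_left_cancel (congrArg Subtype.val hab))
  · rintro ⟨y, hy1, hy2⟩
    have hsq : ∀ r, IsConj t r → r * r = 1 := by
      intro r hr
      obtain ⟨c, rfl⟩ := isConj_iff.1 hr
      rw [show c * t * c⁻¹ * (c * t * c⁻¹) = c * (t * t) * c⁻¹ by group, ht]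
      group
    have hyy := hsq y hy1
    have hyi : y⁻¹ = y := inv_eq_of_mul_eq_one_left hyy
    have h2 := hsq _ hy2
    rw [hyi] at h2
    have hinv : y * ((x : G) * k) * y⁻¹ = ((x : G) * k)⁻¹ := by
      rw [hyi]
      refine eq_inv_of_mul_eq_one_left ?_
      rw [← h2]
      group
    obtain ⟨τ, hτ⟩ := P.mem_u_coset hlam hyy hk hinv
    exact ⟨τ, Subtype.ext hτ.symm⟩

open scoped Classical in
/-- the structure functional vanishes on any `Ind(s ⊗ (1 - lam))` with `∑ s = 0` -/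
theorem functional_ind [Fintype G] [Fintype ↥P.W] {t : G} (ht : t * t = 1) (ht1 : t ≠ 1)
    (hconj : ∀ r : G, r * r = 1 → r ≠ 1 → IsConj t r) (s : ↥P.W → ℂ) :
    ∑ χ : IrrCharacter G, classInner (P.ind s lam) (χ : G → ℂ) * (χ : G → ℂ) t ^ 2 /
        (χ : G → ℂ) 1 =
      (Nat.card (centralizer ({t} : Set G)) : ℂ) ^ 2 / Nat.card G *
        (Nat.card ↥P.K : ℂ) * ∑ x : ↥P.W, s x := by
  haveI : Fintype ↥P.K := Fintype.ofFinite _
  haveI := P.klein
  let N : G → ℂ := fun g => (Nat.card {y : G // IsConj t y ∧ IsConj t (y⁻¹ * g)} : ℂ)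
  set J : ℂ := ((centralizer ({t} : Set G)).index : ℂ) with hJ
  have hG0 : (Nat.card G : ℂ) ≠ 0 := by simp
  have htt : t⁻¹ = t := inv_eq_of_mul_eq_one_left ht
  have hreal : ∀ χ : IrrCharacter G, conj ((χ : G → ℂ) t) = (χ : G → ℂ) t := fun χ => by
    rw [H83.irr_conj_apply χ.2, htt]
  have hN : ∀ g, (Nat.card G : ℂ) * N g = J * J * ∑ χ : IrrCharacter G,
      (χ : G → ℂ) t ^ 2 / (χ : G → ℂ) 1 * (χ : G → ℂ) g := by
    intro g
    rw [show (Nat.card G : ℂ) * N g = (Nat.card G : ℂ) *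
      (Nat.card {y : G // IsConj t y ∧ IsConj t (y⁻¹ * g)} : ℂ) from rfl,
      H83.card_pairs_mul_card t t g, hJ]
    congr 1
    exact Finset.sum_congr rfl fun χ _ => by rw [hreal]; ring
  have hNexp : N = ∑ χ : IrrCharacter G,
      (J * J / (Nat.card G : ℂ) * ((χ : G → ℂ) t ^ 2 / (χ : G → ℂ) 1)) • (χ : G → ℂ) := by
    funext g
    rw [← mul_right_inj' hG0, hN g, Finset.sum_apply, Finset.mul_sum, Finset.mul_sum]
    refine Finset.sum_congr rfl fun χ _ => ?_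
    rw [Pi.smul_apply, smul_eq_mul]
    field_simp
  have hcl : IsClassFunction G N := by
    rw [hNexp]
    intro g x
    simp only [Finset.sum_apply, Pi.smul_apply]
    exact Finset.sum_congr rfl fun χ _ => by rw [IsIrr.isClassFunction χ.2 g x]
  have hv : classInner (P.ind s lam) N = (Nat.card ↥P.K : ℂ) * ∑ x : ↥P.W, s x := by
    rw [P.classInner_ind s lam hcl]
    have e : ∀ (x : ↥P.W) (k : ↥P.K), s x * (1 - (lam k : ℂ)) * conj (N ((x : G) * k)) =
        s x * (1 - (lam k : ℂ)) * (Nat.card ↥P.T : ℂ) := by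
      intro x k
      by_cases hk : lam k = 1
      · simp [hk]
      · simp only [N, P.card_pairs hlam ht ht1 hconj x hk, map_natCast]
    have hT : (Nat.card ↥P.T : ℂ) = 4 * Nat.card ↥P.K := by
      rw [← Nat.card_congr P.equiv.toEquiv, Nat.card_prod, IsKleinFour.card_four]
      push_cast
      rfl
    have hs : ∑ k : ↥P.K, (1 - (lam k : ℂ)) = (Nat.card ↥P.K : ℂ) := by
      rw [Finset.sum_sub_distrib, P.sum_hom lam, if_neg (P.lam_one_ne hlam), Finset.sum_const,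
        Finset.card_univ, ← Nat.card_eq_fintype_card, nsmul_eq_mul, mul_one, sub_zero]
    simp only [e, ← Finset.sum_mul, ← Finset.mul_sum, hs, hT]
    have hk0 : (Nat.card ↥P.K : ℂ) ≠ 0 := by simp
    field_simp
  rw [hNexp, classInner_sum_right] at hv
  have hsum : ∀ χ : IrrCharacter G, classInner (P.ind s lam)
      ((J * J / (Nat.card G : ℂ) * ((χ : G → ℂ) t ^ 2 / (χ : G → ℂ) 1)) • (χ : G → ℂ)) =
      J * J / (Nat.card G : ℂ) *
        (classInner (P.ind s lam) (χ : G → ℂ) * (χ : G → ℂ) t ^ 2 / (χ : G → ℂ) 1) := by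
    intro χ
    rw [classInner_smul_right]
    simp only [map_div₀, map_mul, map_pow, map_natCast, hreal, hJ,
      show conj ((χ : G → ℂ) 1) = (χ : G → ℂ) 1 by rw [H83.irr_conj_apply χ.2, inv_one]]
    ring
  rw [Finset.sum_congr rfl fun χ _ => hsum χ, ← Finset.mul_sum] at hv
  have hC : (Nat.card G : ℂ) = J * (Nat.card (centralizer ({t} : Set G)) : ℂ) := by
    rw [hJ]
    exact_mod_cast (index_mul_card (centralizer ({t} : Set G))).symm
  have hC0 : (Nat.card (centralizer ({t} : Set G)) : ℂ) ≠ 0 := by simp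
  have hJ0 : J ≠ 0 := fun h => hG0 (by rw [hC, h, zero_mul])
  rw [← mul_right_inj' (show J * J / (Nat.card G : ℂ) ≠ 0 from
    div_ne_zero (mul_ne_zero hJ0 hJ0) hG0), hv, hC]
  field_simp

open scoped Classical in
/-- the structure functional vanishes on `H v` -/
theorem functional_H [Fintype G] {t : G} (ht : t * t = 1) (ht1 : t ≠ 1)
    (hconj : ∀ r : G, r * r = 1 → r ≠ 1 → IsConj t r) {v : ↥P.W} (hv : v ≠ 1) :
    ∑ χ : IrrCharacter G, classInner (P.H v lam) (χ : G → ℂ) * (χ : G → ℂ) t ^ 2 /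
      (χ : G → ℂ) 1 = 0 := by
  haveI : Fintype ↥P.W := Fintype.ofFinite _
  rw [H_eq_ind, P.functional_ind hlam ht ht1 hconj, P.sum_sgn hv, mul_zero]

open scoped Classical in
/-- the structure functional on `H₁` -/
theorem functional_H1 [Fintype G] {t : G} (ht : t * t = 1) (ht1 : t ≠ 1)
    (hconj : ∀ r : G, r * r = 1 → r ≠ 1 → IsConj t r) :
    ∑ χ : IrrCharacter G, classInner (P.H1 lam) (χ : G → ℂ) * (χ : G → ℂ) t ^ 2 /
      (χ : G → ℂ) 1 =
      4 * (Nat.card ↥P.K : ℂ) * (Nat.card (centralizer ({t} : Set G)) : ℂ) ^ 2 / Nat.card G := by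
  haveI : Fintype ↥P.W := Fintype.ofFinite _
  haveI := P.klein
  rw [H1, P.functional_ind hlam ht ht1 hconj]
  simp [← Nat.card_eq_fintype_card, IsKleinFour.card_four]
  ring

end TorusPair

end Cfsg.Agent.H40.Ward
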