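import Cfsg.Agent.H40.Ward.TorusChars

/-!
Inner products of the functions `Ind_T^G(s ⊗ (1 - lam))` of a torus with each other and with class
functions vanishing on `K`; the function `H₁` of norm seven.
-/

set_option autoImplicit false
set_option linter.unusedSectionVars false
set_option linter.style.haveILetI false

namespace Cfsg.Agent.H40.Ward

open Subgroup Cfsg Cfsg.Agent Cfsg.Agent.CharBasic Cfsg.Agent.CharInduce
open scoped ComplexConjugate

universe u

variable {G : Type u} [Group G]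

namespace TorusPair

variable (P : TorusPair G)

/-- `s ⊗ (1 - lam)` -/
noncomputable def phiS (s : ↥P.W → ℂ) (lam : ↥P.K →* ℂˣ) (a : ↥P.T) : ℂ :=
  s (P.equiv.symm a).1 * (1 - (lam (P.equiv.symm a).2 : ℂ))

theorem phiS_equiv (s : ↥P.W → ℂ) (lam : ↥P.K →* ℂˣ) (x : ↥P.W) (k : ↥P.K) :
    P.phiS s lam (P.equiv (x, k)) = s x * (1 - (lam k : ℂ)) := by
  simp [phiS]

/-- `Ind_T^G(s ⊗ (1 - lam))` -/
noncomputable def ind [Fintype G] (s : ↥P.W → ℂ) (lam : ↥P.K →* ℂˣ) : G → ℂ :=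
  indFun P.T (P.phiS s lam)

/-- the function of norm seven -/
noncomputable def H1 [Fintype G] (lam : ↥P.K →* ℂˣ) : G → ℂ := P.ind (fun _ => 1) lam

theorem H_eq_ind [Fintype G] (v : ↥P.W) (lam : ↥P.K →* ℂˣ) :
    P.H v lam = P.ind (P.sgn v) lam := rfl

theorem H1_isGen [Fintype G] (lam : ↥P.K →* ℂˣ) : IsGeneralizedCharacter G (P.H1 lam) := by
  haveI : Fintype ↥P.T := Fintype.ofFinite _
  refine IsGen.ind P.T ?_
  let b : ↥P.T →* ℂˣ := (lam.comp (MonoidHom.snd _ _)).comp P.equiv.symm.toMonoidHom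
  refine ⟨_, _, IsChar.one, isCharacter_hom b, ?_⟩
  funext g
  simp [phiS, b]

theorem H1_one [Fintype G] (lam : ↥P.K →* ℂˣ) : P.H1 lam 1 = 0 := by
  rw [H1, ind, indFun_one, phiS, map_one]
  simp

/-- Frobenius reciprocity -/
theorem classInner_ind [Fintype G] [Fintype ↥P.W] [Fintype ↥P.K] (s : ↥P.W → ℂ)
    (lam : ↥P.K →* ℂˣ) {f : G → ℂ} (hf : IsClassFunction G f) :
    classInner (P.ind s lam) f = ((4 : ℂ) * Nat.card ↥P.K)⁻¹ *
      ∑ x : ↥P.W, ∑ k : ↥P.K, s x * (1 - (lam k : ℂ)) * conj (f ((x : G) * k)) := by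
  haveI : Fintype ↥P.T := Fintype.ofFinite _
  haveI := P.klein
  rw [ind, classInner_indFun_left _ _ _ hf, ← classInner_comp_mulEquiv P.equiv, classInner_def,
    Nat.card_prod, IsKleinFour.card_four, Fintype.sum_prod_type]
  push_cast
  simp only [phiS_equiv, equiv_coe]

theorem hom_mul_inv_eq_one_iff {μ ν : ↥P.K →* ℂˣ} : μ * ν⁻¹ = 1 ↔ μ = ν := by
  simp [MonoidHom.ext_iff, mul_inv_eq_one]

theorem hom_mul_eq_one_iff {μ ν : ↥P.K →* ℂˣ} : μ * ν = 1 ↔ μ = ν⁻¹ := by
  simp [MonoidHom.ext_iff, mul_eq_one_iff_eq_inv]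

theorem hom_inv_inv (μ : ↥P.K →* ℂˣ) : (μ⁻¹)⁻¹ = μ := MonoidHom.ext fun k => inv_inv _

theorem hom_one_inv : (1 : ↥P.K →* ℂˣ)⁻¹ = 1 := MonoidHom.ext fun k => inv_one

theorem actK_add (i d : ℕ) (hi : i < 3) (hd : d < 3) (hid : i + d < 3) (j : Fin 2) (k : ↥P.K) :
    P.actK (⟨i + d, hid⟩, j) k = P.actK (⟨i, hi⟩, 0) (P.actK (⟨d, hd⟩, j) k) := by
  apply Subtype.ext
  simp only [actK_coe, rep, Fin.val_zero, pow_zero, mul_one, pow_add]
  group

/-- if `w` is fixed point free on `K`, every non-trivial character is adapted -/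
theorem adapted_of_fpf [Finite G] (hfpf : ∀ k ∈ P.K, P.w * k * P.w⁻¹ = k → k = 1)
    {lam : ↥P.K →* ℂˣ} (hl : lam ≠ 1) : P.Adapted lam := by
  refine ⟨fun k hk => by rw [show k = 1 from Subtype.ext (hfpf k k.2 hk), map_one], ?_⟩
  by_contra hcon
  push Not at hcon
  let δ : ↥P.K → ↥P.K := fun k => k⁻¹ * ⟨P.w * k * P.w⁻¹, P.w_K k k.2⟩
  have hinj : Function.Injective δ := by
    intro a b hab
    have h := congrArg Subtype.val hab
    simp only [δ, Subgroup.coe_mul, InvMemClass.coe_inv] at h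
    have hc : Commute (P.w * (a : G) * P.w⁻¹) (b : G)⁻¹ :=
      P.comm_K _ (P.w_K a a.2) _ (inv_mem b.2)
    have h2 : P.w * ((a : G) * (b : G)⁻¹) * P.w⁻¹ = (a : G) * (b : G)⁻¹ := by
      have h3 : P.w * (a : G) * P.w⁻¹ = (a : G) * ((b : G)⁻¹ * (P.w * b * P.w⁻¹)) := by
        rw [← h, mul_inv_cancel_left]
      rw [show P.w * ((a : G) * (b : G)⁻¹) * P.w⁻¹ =
        (P.w * a * P.w⁻¹) * (P.w * b * P.w⁻¹)⁻¹ by group, h3]
      group
    have h4 := hfpf _ (mul_mem a.2 (inv_mem b.2)) h2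
    exact Subtype.ext (mul_inv_eq_one.1 h4)
  refine hl (MonoidHom.ext fun k => ?_)
  obtain ⟨k', rfl⟩ := Finite.surjective_of_injective hinj k
  show lam (δ k') = 1
  simp only [δ, map_mul, map_inv, hcon k', inv_mul_cancel]

variable {lam : ↥P.K →* ℂˣ} (hlam : P.Adapted lam)
include hlam

theorem lam_one_ne : lam ≠ 1 := by
  obtain ⟨k, hk⟩ := P.exists_ne hlam
  exact fun e => hk (by rw [e]; rfl)

variable [Fintype G]

theorem H1_two {g : G} {n : ℕ} (hg : g ^ 2 ^ n = 1) : P.H1 lam g = 0 := by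
  rw [H1, ind, indFun_apply, Finset.sum_eq_zero, mul_zero]
  intro y _
  by_cases hy : y⁻¹ * g * y ∈ P.T
  · obtain ⟨⟨x, k⟩, he⟩ := P.equiv.surjective ⟨_, hy⟩
    have he' : (x : G) * k = y⁻¹ * g * y := congrArg Subtype.val he
    have h1 := congrArg (· ^ 2 ^ (n + 1)) he'
    simp only [(P.comm x x.2 k k.2).mul_pow] at h1
    rw [show (x : G) ^ 2 ^ (n + 1) = 1 by
        rw [pow_succ', pow_mul, pow_two, P.mul_self x.2, one_pow], one_mul,
      show y⁻¹ * g * y = y⁻¹ * g * (y⁻¹)⁻¹ by simp, conj_pow,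
      show g ^ 2 ^ (n + 1) = 1 by rw [pow_succ 2 n, pow_mul, hg, one_pow],
      mul_one, mul_inv_cancel] at h1
    have hk : k = 1 := Subtype.ext (orderOf_eq_one_iff.1 (Nat.eq_one_of_dvd_coprimes
      (Nat.Coprime.pow_left (n + 1) (Nat.coprime_two_left.2 P.odd)) (orderOf_dvd_of_pow_eq_one h1)
      (Subgroup.orderOf_dvd_natCard _ k.2)))
    rw [extendByZero_of_mem _ hy, ← he, P.phiS_equiv, hk, map_one, Units.val_one, sub_self,
      mul_zero]
  · exact extendByZero_of_not_mem _ hy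

/-- the three conjugates of an involution of `W` -/
theorem orbit_injective {x : ↥P.W} (hx : x ≠ 1) :
    Function.Injective fun i : Fin 3 => P.actW (i, 0) x := by
  intro a b hab
  have e := congrArg Subtype.val hab
  simp only [actW_coe, rep, Fin.val_zero, pow_zero, mul_one] at e
  have hstep : ∀ m n : ℕ, m ≤ n → n < 3 → P.w ^ m * (x : G) * (P.w ^ m)⁻¹ =
      P.w ^ n * (x : G) * (P.w ^ n)⁻¹ → m = n := by
    intro m n hmn hn he
    obtain ⟨d, rfl⟩ := Nat.exists_eq_add_of_le hmn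
    rw [pow_add, show P.w ^ m * P.w ^ d * (x : G) * (P.w ^ m * P.w ^ d)⁻¹ =
      P.w ^ m * (P.w ^ d * (x : G) * (P.w ^ d)⁻¹) * (P.w ^ m)⁻¹ by group] at he
    have := P.w_pow_fixed hlam (show d < 3 by omega) x.2 (fun h => hx (Subtype.ext h))
      (mul_left_cancel (mul_right_cancel he)).symm
    omega
  rcases le_total (a : ℕ) b with hle | hle
  · exact Fin.ext (hstep _ _ hle b.2 e)
  · exact Fin.ext (hstep _ _ hle a.2 e.symm).symm

theorem sum_W [Fintype ↥P.W] {x0 : ↥P.W} (hx0 : x0 ≠ 1) (F : ↥P.W → ℂ) :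
    ∑ x : ↥P.W, F x = F 1 + ∑ i : Fin 3, F (P.actW (i, 0) x0) := by
  classical
  haveI := P.klein
  have hinj := P.orbit_injective hlam hx0
  have hnm : (1 : ↥P.W) ∉ Finset.univ.image fun i : Fin 3 => P.actW (i, 0) x0 := by
    simp only [Finset.mem_image, Finset.mem_univ, true_and, not_exists]
    exact fun i h => hx0 (P.actW_injective (i, 0) (h.trans (map_one _).symm))
  have huniv : (Finset.univ : Finset ↥P.W) =
      insert 1 (Finset.univ.image fun i : Fin 3 => P.actW (i, 0) x0) := by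
    refine (Finset.eq_univ_of_card _ ?_).symm
    rw [Finset.card_insert_of_notMem hnm, Finset.card_image_of_injective _ hinj, Finset.card_univ,
      Fintype.card_fin, ← Nat.card_eq_fintype_card, IsKleinFour.card_four]
  rw [huniv, Finset.sum_insert hnm, Finset.sum_image fun a _ b _ h => hinj h]

theorem sum_sgn_orbit {v x0 : ↥P.W} (hv : v ≠ 1) (hx0 : x0 ≠ 1) :
    ∑ i : Fin 3, P.sgn v (P.actW (i, 0) x0) = -1 := by
  haveI : Fintype ↥P.W := Fintype.ofFinite _
  have h := P.sum_W hlam hx0 (P.sgn v)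
  rw [P.sum_sgn hv, P.sgn_one] at h
  linear_combination -h

open scoped Classical in
theorem sgn_orbit (v x0 : ↥P.W) (hx0 : x0 ≠ 1) (i : Fin 3) :
    P.sgn v (P.actW (i, 0) x0) = if P.actW (i, 0) x0 = v then 1 else -1 := by
  have h1 : P.actW (i, 0) x0 ≠ 1 := fun h => hx0 (P.actW_injective (i, 0) (h.trans (map_one _).symm))
  simp [sgn, h1]

/-- inner products of two induced functions -/
theorem classInner_ind_ind [Fintype ↥P.W] (s s' : ↥P.W → ℂ) :
    classInner (P.ind s lam) (P.ind s' lam) = (4 : ℂ)⁻¹ *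
      ((∑ c : Fin 3 × Fin 2, ∑ x : ↥P.W, s (P.actW c x) * conj (s' x)) +
        ∑ x : ↥P.W, s x * conj (s' x)) := by
  classical
  haveI : Fintype ↥P.T := Fintype.ofFinite _
  haveI : Fintype ↥P.K := Fintype.ofFinite _
  haveI := P.klein
  rw [ind, ind, classInner_indFun_left _ _ _ (isClassFunction_indFun _ _)]
  have hterm : classInner (P.phiS s lam) (fun a : ↥P.T => indFun P.T (P.phiS s' lam) (a : G)) =
      ∑ c : Fin 3 × Fin 2, classInner (fun b => P.phiS s lam (P.actT c b)) (P.phiS s' lam) := by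
    have hH : ∀ a : ↥P.T, indFun P.T (P.phiS s' lam) (a : G) = ∑ c : Fin 3 × Fin 2,
        extendByZero P.T (P.phiS s' lam) ((P.rep c)⁻¹ * a * P.rep c) := fun a =>
      P.ind_apply_actT hlam _ (fun b e => by simp [phiS, e]) a
    simp only [classInner_def, hH, map_sum, Finset.mul_sum]
    rw [Finset.sum_comm]
    refine Finset.sum_congr rfl fun c _ => ?_
    have hb : Function.Bijective (P.actT c) :=
      ⟨P.actT_injective c, Finite.surjective_of_injective (P.actT_injective c)⟩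
    refine (Fintype.sum_bijective _ hb _ _ fun b => ?_).symm
    congr 3
    rw [show (P.rep c)⁻¹ * (P.actT c b : G) * P.rep c = (b : G) by simp [actT]; group,
      extendByZero_coe]
  rw [hterm]
  have hl1 := P.lam_one_ne hlam
  have hk : (Nat.card ↥P.K : ℂ) ≠ 0 := by simp
  have hone : ∀ c : Fin 3 × Fin 2,
      classInner (fun b => P.phiS s lam (P.actT c b)) (P.phiS s' lam) =
        (4 : ℂ)⁻¹ * (∑ x : ↥P.W, s (P.actW c x) * conj (s' x)) *
          (1 + if c = 0 then 1 else 0) := by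
    intro c
    rw [← classInner_comp_mulEquiv P.equiv]
    have e1 : (fun y : ↥P.W × ↥P.K => P.phiS s lam (P.actT c (P.equiv y))) =
        fun y => s (P.actW c y.1) * (1 - (lam (P.actK c y.2) : ℂ)) := by
      funext y
      rw [P.actT_equiv c y.1 y.2, P.phiS_equiv]
    have e2 : (fun y : ↥P.W × ↥P.K => P.phiS s' lam (P.equiv y)) =
        fun y => s' y.1 * (1 - (lam y.2 : ℂ)) := funext fun y => P.phiS_equiv s' lam y.1 y.2
    rw [e1, e2, classInner_outer (fun x => s (P.actW c x)) s'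
      (fun k => 1 - (lam (P.actK c k) : ℂ)) (fun k => 1 - (lam k : ℂ)), classInner_def,
      classInner_def, IsKleinFour.card_four]
    congr 1
    set μ : ↥P.K →* ℂˣ := lam.comp (P.actK c) with hμ
    rw [Finset.sum_congr rfl fun k _ => show (1 - (lam (P.actK c k) : ℂ)) * conj (1 - (lam k : ℂ)) =
      1 - (μ k : ℂ) - ((lam⁻¹ : ↥P.K →* ℂˣ) k : ℂ) + ((μ * lam⁻¹ : ↥P.K →* ℂˣ) k : ℂ) by
        have hn := norm_hom lam k
        have hmul : (lam k : ℂ) * conj (lam k : ℂ) = 1 := by rw [Complex.mul_conj', hn]; norm_num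
        have hinv : conj (lam k : ℂ) = ((lam k : ℂ))⁻¹ := eq_inv_of_mul_eq_one_right hmul
        simp only [map_sub, map_one, hinv, MonoidHom.inv_apply, MonoidHom.mul_apply,
          Units.val_mul, Units.val_inv_eq_inv_val, hμ, MonoidHom.comp_apply]
        ring]
    have hμ1 : μ ≠ 1 := fun e => hl1 (MonoidHom.ext fun k => by
      obtain ⟨k', rfl⟩ := Finite.surjective_of_injective (f := P.actK c) (fun a b hab => by
        have h' := congrArg Subtype.val hab
        simp only [actK_coe] at h'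
        exact Subtype.ext (mul_left_cancel (mul_right_cancel h'))) k
      exact DFunLike.congr_fun e k')
    have hiff : μ * lam⁻¹ = 1 ↔ c = 0 := by
      rw [P.hom_mul_inv_eq_one_iff, hμ]
      constructor
      · intro h
        by_contra hc
        exact P.lam_actK_ne hlam c.1 c.2 (fun hh => hc (Prod.ext hh.1 hh.2)) h
      · rintro rfl
        exact MonoidHom.ext fun k => congrArg lam (Subtype.ext (by simp [rep]))
    rw [Finset.sum_add_distrib, Finset.sum_sub_distrib, Finset.sum_sub_distrib, P.sum_hom μ,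
      P.sum_hom lam⁻¹, P.sum_hom (μ * lam⁻¹), if_neg hμ1,
      if_neg (fun e => hl1 (MonoidHom.ext fun k => by simpa using DFunLike.congr_fun e k)),
      Finset.sum_const, Finset.card_univ, ← Nat.card_eq_fintype_card, nsmul_eq_mul]
    simp only [hiff]
    push_cast
    split_ifs <;> field_simp <;> ring
  rw [Finset.sum_congr rfl fun c _ => hone c]
  simp only [mul_add, mul_one, mul_ite, mul_zero, Finset.sum_add_distrib, Finset.sum_ite_eq',
    Finset.mem_univ, if_true, ← Finset.mul_sum]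
  congr 1
  refine congrArg _ (Finset.sum_congr rfl fun x _ => ?_)
  rw [show P.actW 0 x = x from Subtype.ext (by simp [rep])]

theorem classInner_H1_H1 : classInner (P.H1 lam) (P.H1 lam) = 7 := by
  haveI : Fintype ↥P.W := Fintype.ofFinite _
  haveI := P.klein
  rw [H1, P.classInner_ind_ind hlam]
  simp [← Nat.card_eq_fintype_card, IsKleinFour.card_four]
  norm_num

theorem classInner_H1_H {v : ↥P.W} (hv : v ≠ 1) : classInner (P.H1 lam) (P.H v lam) = 0 := by
  haveI : Fintype ↥P.W := Fintype.ofFinite _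
  rw [H1, H_eq_ind, P.classInner_ind_ind hlam]
  simp [P.sgn_conj, P.sum_sgn hv]

/-- inner products with a class function vanishing on `K`, read on one coset `x0 K` -/
theorem classInner_ind_split [Fintype ↥P.K] (s : ↥P.W → ℂ) {f : G → ℂ} (hf : IsClassFunction G f)
    {x0 : ↥P.W} (hx0 : x0 ≠ 1) (h0 : ∀ k : ↥P.K, f (k : G) = 0) {g : ↥P.K → ℂ}
    (hg : ∀ k : ↥P.K, k ≠ 1 → f ((x0 : G) * k) = g k) :
    classInner (P.ind s lam) f = ((4 : ℂ) * Nat.card ↥P.K)⁻¹ *
      ∑ i : Fin 3, s (P.actW (i, 0) x0) *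
        ∑ k : ↥P.K, (1 - (lam (P.actK (i, 0) k) : ℂ)) * conj (g k) := by
  haveI : Fintype ↥P.W := Fintype.ofFinite _
  rw [P.classInner_ind s lam hf, P.sum_W hlam hx0]
  simp only [OneMemClass.coe_one, one_mul, h0, map_zero, mul_zero, Finset.sum_const_zero, zero_add]
  congr 1
  refine Finset.sum_congr rfl fun i _ => ?_
  rw [Finset.mul_sum]
  have hb : Function.Bijective (P.actK (i, 0)) := by
    have : Function.Injective (P.actK (i, 0)) := fun a b hab => by
      have h' := congrArg Subtype.val hab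
      simp only [actK_coe] at h'
      exact Subtype.ext (mul_left_cancel (mul_right_cancel h'))
    exact ⟨this, Finite.surjective_of_injective this⟩
  refine (Fintype.sum_bijective _ hb _ _ fun k => ?_).symm
  by_cases hk : k = 1
  · simp [hk]
  · have hconj : f ((P.actW (i, 0) x0 : G) * (P.actK (i, 0) k : G)) = g k := by
      rw [← hg k hk, ← hf ((x0 : G) * k) (P.rep (i, 0)), actW_coe, actK_coe]
      congr 1
      group
    rw [hconj, mul_assoc]

/-- class functions constant on the coset -/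
theorem classInner_ind_const (s : ↥P.W → ℂ) {f : G → ℂ} (hf : IsClassFunction G f)
    {x0 : ↥P.W} (hx0 : x0 ≠ 1) (h0 : ∀ k : ↥P.K, f (k : G) = 0) {c : ℂ}
    (hg : ∀ k : ↥P.K, k ≠ 1 → f ((x0 : G) * k) = c) :
    classInner (P.ind s lam) f = conj c / 4 * ∑ i : Fin 3, s (P.actW (i, 0) x0) := by
  classical
  haveI : Fintype ↥P.K := Fintype.ofFinite _
  rw [P.classInner_ind_split hlam s hf hx0 h0 hg]
  have hl1 := P.lam_one_ne hlam
  have hsum : ∀ i : Fin 3, ∑ k : ↥P.K, (1 - (lam (P.actK (i, 0) k) : ℂ)) * conj c =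
      (Nat.card ↥P.K : ℂ) * conj c := by
    intro i
    have hne : lam.comp (P.actK (i, 0)) ≠ 1 := by
      intro e
      refine hl1 (MonoidHom.ext fun k => ?_)
      obtain ⟨k', rfl⟩ := Finite.surjective_of_injective (f := P.actK (i, 0)) (fun a b hab => by
        have h' := congrArg Subtype.val hab
        simp only [actK_coe] at h'
        exact Subtype.ext (mul_left_cancel (mul_right_cancel h'))) k
      exact DFunLike.congr_fun e k'
    have h := P.sum_hom (lam.comp (P.actK (i, 0)))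
    rw [if_neg hne] at h
    simp only [MonoidHom.comp_apply] at h
    rw [← Finset.sum_mul, Finset.sum_sub_distrib, h, Finset.sum_const, Finset.card_univ,
      ← Nat.card_eq_fintype_card, nsmul_eq_mul, sub_zero, mul_one]
  simp only [hsum, ← Finset.sum_mul]
  have hk : (Nat.card ↥P.K : ℂ) ≠ 0 := by simp
  field_simp

/-- `H v` against a function constant on the coset -/
theorem classInner_H_const {v : ↥P.W} (hv : v ≠ 1) {f : G → ℂ} (hf : IsClassFunction G f)
    {x0 : ↥P.W} (hx0 : x0 ≠ 1) (h0 : ∀ k : ↥P.K, f (k : G) = 0) {c : ℂ}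
    (hg : ∀ k : ↥P.K, k ≠ 1 → f ((x0 : G) * k) = c) :
    classInner (P.H v lam) f = -conj c / 4 := by
  rw [H_eq_ind, P.classInner_ind_const hlam _ hf hx0 h0 hg, P.sum_sgn_orbit hlam hv hx0]
  ring

theorem classInner_H1_const {f : G → ℂ} (hf : IsClassFunction G f)
    {x0 : ↥P.W} (hx0 : x0 ≠ 1) (h0 : ∀ k : ↥P.K, f (k : G) = 0) {c : ℂ}
    (hg : ∀ k : ↥P.K, k ≠ 1 → f ((x0 : G) * k) = c) :
    classInner (P.H1 lam) f = 3 * conj c / 4 := by
  rw [H1, P.classInner_ind_const hlam _ hf hx0 h0 hg]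
  simp
  ring

theorem lam_act_eq_iff {i i' : Fin 3} :
    lam.comp (P.actK (i, 0)) = lam.comp (P.actK (i', 0)) ↔ i = i' := by
  refine ⟨fun h => ?_, fun h => by rw [h]⟩
  have key : ∀ a b : Fin 3, (a : ℕ) ≤ b →
      lam.comp (P.actK (a, 0)) = lam.comp (P.actK (b, 0)) → a = b := by
    intro a b hab he
    obtain ⟨d, hd⟩ := Nat.exists_eq_add_of_le hab
    by_contra hne
    have hd3 : d < 3 := by omega
    refine P.lam_actK_ne hlam ⟨d, hd3⟩ 0 (fun hh => hne (Fin.ext (by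
      have := congrArg Fin.val hh.1; simp at this; omega))) (MonoidHom.ext fun k => ?_)
    obtain ⟨k', rfl⟩ := Finite.surjective_of_injective (f := P.actK (a, 0)) (fun x y hxy => by
      have h' := congrArg Subtype.val hxy
      simp only [actK_coe] at h'
      exact Subtype.ext (mul_left_cancel (mul_right_cancel h'))) k
    have := DFunLike.congr_fun he k'
    simp only [MonoidHom.comp_apply] at this ⊢
    rw [this]
    refine congrArg lam (Subtype.ext ?_)
    simp only [actK_coe, rep, Fin.val_zero, pow_zero, mul_one, hd, pow_add]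
    group
  rcases le_total (i : ℕ) i' with hle | hle
  · exact key _ _ hle h
  · exact (key _ _ hle h.symm).symm

theorem lam_act_ne_inv (i i' : Fin 3) :
    lam.comp (P.actK (i, 0)) ≠ (lam.comp (P.actK (i', 0)))⁻¹ := by
  intro h
  have key : ∀ a b : Fin 3, (a : ℕ) ≤ b →
      lam.comp (P.actK (b, 0)) = (lam.comp (P.actK (a, 0)))⁻¹ → False := by
    intro a b hab he
    obtain ⟨d, hd⟩ := Nat.exists_eq_add_of_le hab
    have hd3 : d < 3 := by omega
    refine P.lam_actK_ne hlam ⟨d, hd3⟩ 1 (fun hh => by simp at hh) (MonoidHom.ext fun k => ?_)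
    obtain ⟨k', rfl⟩ := Finite.surjective_of_injective (f := P.actK (a, 0)) (fun x y hxy => by
      have h' := congrArg Subtype.val hxy
      simp only [actK_coe] at h'
      exact Subtype.ext (mul_left_cancel (mul_right_cancel h'))) k
    have := DFunLike.congr_fun he k'
    simp only [MonoidHom.comp_apply, MonoidHom.inv_apply] at this ⊢
    rw [← inv_inj, ← this, ← map_inv]
    refine congrArg lam (Subtype.ext ?_)
    simp only [actK_coe, InvMemClass.coe_inv, rep, Fin.val_zero, pow_zero, mul_one, Fin.val_one,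
      pow_one, hd, pow_add]
    rw [show P.w ^ d * P.u * (P.w ^ (a : ℕ) * (k' : G) * (P.w ^ (a : ℕ))⁻¹) * (P.w ^ d * P.u)⁻¹ =
      P.w ^ d * (P.u * (P.w ^ (a : ℕ) * (k' : G) * (P.w ^ (a : ℕ))⁻¹) * P.u⁻¹) * (P.w ^ d)⁻¹ by
        group]
    rw [P.u_K _ (by simpa [rep] using P.rep_K (a, 0) k'.2)]
    rw [← pow_add, add_comm, pow_add]
    group
  rcases le_total (i : ℕ) i' with hle | hle
  · exact key _ _ hle (by rw [h, P.hom_inv_inv])
  · exact key _ _ hle h

open scoped Classical in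
/-- class functions equal to `a (μ + μ⁻¹)` on the coset -/
theorem classInner_ind_hom (s : ↥P.W → ℂ) {f : G → ℂ} (hf : IsClassFunction G f)
    {x0 : ↥P.W} (hx0 : x0 ≠ 1) (h0 : ∀ k : ↥P.K, f (k : G) = 0) {a : ℂ} {μ : ↥P.K →* ℂˣ}
    (hμ : μ ≠ 1) (hg : ∀ k : ↥P.K, k ≠ 1 → f ((x0 : G) * k) = a * ((μ k : ℂ) + (μ k : ℂ)⁻¹)) :
    classInner (P.ind s lam) f = -conj a / 4 *
      ∑ i : Fin 3, s (P.actW (i, 0) x0) *
        ((if lam.comp (P.actK (i, 0)) = μ then 1 else 0) +
          if lam.comp (P.actK (i, 0)) = μ⁻¹ then 1 else 0) := by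
  haveI : Fintype ↥P.K := Fintype.ofFinite _
  rw [P.classInner_ind_split hlam s hf hx0 h0 hg]
  have hk : (Nat.card ↥P.K : ℂ) ≠ 0 := by simp
  have hsum : ∀ i : Fin 3,
      ∑ k : ↥P.K, (1 - (lam (P.actK (i, 0) k) : ℂ)) * conj (a * ((μ k : ℂ) + (μ k : ℂ)⁻¹)) =
      -((Nat.card ↥P.K : ℂ) * conj a) * ((if lam.comp (P.actK (i, 0)) = μ then 1 else 0) +
        if lam.comp (P.actK (i, 0)) = μ⁻¹ then 1 else 0) := by
    intro i
    set ν : ↥P.K →* ℂˣ := lam.comp (P.actK (i, 0)) with hν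
    rw [Finset.sum_congr rfl fun k _ =>
      show (1 - (lam (P.actK (i, 0) k) : ℂ)) * conj (a * ((μ k : ℂ) + (μ k : ℂ)⁻¹)) =
        conj a * ((μ k : ℂ) + ((μ⁻¹ : ↥P.K →* ℂˣ) k : ℂ) - ((ν * μ : ↥P.K →* ℂˣ) k : ℂ) -
          ((ν * μ⁻¹ : ↥P.K →* ℂˣ) k : ℂ)) by
        have hn := norm_hom μ k
        have hmul : (μ k : ℂ) * conj (μ k : ℂ) = 1 := by rw [Complex.mul_conj', hn]; norm_num
        have hinv : conj (μ k : ℂ) = ((μ k : ℂ))⁻¹ := eq_inv_of_mul_eq_one_right hmul
        simp only [map_mul, map_add, map_inv₀, hinv, inv_inv, MonoidHom.inv_apply,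
          MonoidHom.mul_apply, Units.val_mul, Units.val_inv_eq_inv_val, hν, MonoidHom.comp_apply]
        ring]
    have e1 : ν * μ = 1 ↔ ν = μ⁻¹ := P.hom_mul_eq_one_iff
    have e2 : ν * μ⁻¹ = 1 ↔ ν = μ := P.hom_mul_inv_eq_one_iff
    rw [← Finset.mul_sum, Finset.sum_sub_distrib, Finset.sum_sub_distrib, Finset.sum_add_distrib,
      P.sum_hom μ, P.sum_hom μ⁻¹, P.sum_hom (ν * μ), P.sum_hom (ν * μ⁻¹), if_neg hμ,
      if_neg (fun e => hμ (by rw [← P.hom_inv_inv μ, e, P.hom_one_inv]))]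
    simp only [e1, e2]
    split_ifs <;> ring
  simp only [hsum, Finset.mul_sum]
  refine Finset.sum_congr rfl fun i _ => ?_
  field_simp
  congr!

/-- a function of the orbit of `lam` -/
theorem classInner_ind_hom_eq (s : ↥P.W → ℂ) {f : G → ℂ} (hf : IsClassFunction G f)
    {x0 : ↥P.W} (hx0 : x0 ≠ 1) (h0 : ∀ k : ↥P.K, f (k : G) = 0) {a : ℂ} {μ : ↥P.K →* ℂˣ}
    {i0 : Fin 3} (hμ : μ = lam.comp (P.actK (i0, 0)) ∨ μ = (lam.comp (P.actK (i0, 0)))⁻¹)
    (hg : ∀ k : ↥P.K, k ≠ 1 → f ((x0 : G) * k) = a * ((μ k : ℂ) + (μ k : ℂ)⁻¹)) :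
    classInner (P.ind s lam) f = -conj a / 4 * s (P.actW (i0, 0) x0) := by
  classical
  have hsum : ∀ i, ((if lam.comp (P.actK (i, 0)) = μ then (1 : ℂ) else 0) +
      if lam.comp (P.actK (i, 0)) = μ⁻¹ then 1 else 0) = if i = i0 then 1 else 0 := by
    intro i
    rcases hμ with rfl | rfl
    · simp [P.lam_act_eq_iff hlam, P.lam_act_ne_inv hlam i i0]
    · simp [P.hom_inv_inv, P.lam_act_eq_iff hlam, P.lam_act_ne_inv hlam i i0]
  have hμ1 : μ ≠ 1 := by
    intro e
    have h := hsum i0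
    subst e
    rw [P.hom_one_inv, if_pos rfl] at h
    split_ifs at h <;> norm_num at h
  rw [P.classInner_ind_hom hlam s hf hx0 h0 hμ1 hg]
  simp [hsum]

theorem classInner_ind_hom_ne (s : ↥P.W → ℂ) {f : G → ℂ} (hf : IsClassFunction G f)
    {x0 : ↥P.W} (hx0 : x0 ≠ 1) (h0 : ∀ k : ↥P.K, f (k : G) = 0) {a : ℂ} {μ : ↥P.K →* ℂˣ}
    (hμ : μ ≠ 1) (hne : ∀ i : Fin 3, lam.comp (P.actK (i, 0)) ≠ μ ∧
      lam.comp (P.actK (i, 0)) ≠ μ⁻¹)
    (hg : ∀ k : ↥P.K, k ≠ 1 → f ((x0 : G) * k) = a * ((μ k : ℂ) + (μ k : ℂ)⁻¹)) :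
    classInner (P.ind s lam) f = 0 := by
  rw [P.classInner_ind_hom hlam s hf hx0 h0 hμ hg]
  simp [(hne _).1, (hne _).2]

end TorusPair

end Cfsg.Agent.H40.Ward
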