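import Cfsg.Agent.H40.Ward.TorusFunctional
import Cfsg.Agent.H84.Ward.TSection

/-!
The exceptional functions of a torus against the section functions `F θ`.
-/

set_option autoImplicit false
set_option linter.unusedSectionVars false
set_option linter.style.haveILetI false

namespace Cfsg.Agent.H40.Ward

open Subgroup Cfsg Cfsg.Agent Cfsg.Agent.CharBasic Cfsg.Agent.CharInduce Cfsg.Agent.H84.Ward
open scoped ComplexConjugate

universe u v

variable {G : Type u} {L : Type v} [Group G] [Group L]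

namespace TorusPair

variable (P : TorusPair G) (D : TData G L)

/-- the embedding of `K` in the `L` factor -/
theorem exists_iota [Finite G] {x0 : ↥P.W} (hx0 : (x0 : G) = D.t) :
    ∃ ι : ↥P.K →* L, (∀ k : ↥P.K, D.emb (1, ι k) = (k : G)) ∧
      ∀ k : ↥P.K, Odd (orderOf (ι k)) ∧ (ι k = 1 ↔ k = 1) := by
  have hmem : ∀ k : ↥P.K, (k : G) ∈ centralizer ({D.t} : Set G) := fun k =>
    mem_centralizer_singleton_iff.2 (hx0 ▸ (P.comm x0 x0.2 k k.2).symm.eq)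
  choose c hc using fun k => D.exists_emb (hmem k)
  have hodd : ∀ k : ↥P.K, Odd (orderOf (c k)) := fun k => by
    rw [← orderOf_injective D.emb D.emb_injective, hc]
    exact P.odd.of_dvd_nat (Subgroup.orderOf_dvd_natCard _ k.2)
  have hfst : ∀ k : ↥P.K, (c k).1 = 1 := fun k => by
    rcases z2_cases (c k).1 with h | h
    · exact h
    · have h1 := congrArg Prod.fst (pow_orderOf_eq_one (c k))
      rw [Prod.pow_fst, h, tu_pow_odd (hodd k)] at h1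
      exact absurd h1 tu_ne_one
  refine ⟨{ toFun := fun k => (c k).2
            map_one' := ?_
            map_mul' := fun a b => ?_ }, fun k => ?_, fun k => ⟨?_, ?_, ?_⟩⟩
  · have h : c 1 = 1 := D.emb_injective (by rw [hc, map_one]; rfl)
    rw [h]; rfl
  · have h : c (a * b) = c a * c b := D.emb_injective (by rw [map_mul, hc, hc, hc]; rfl)
    rw [h]; rfl
  · show D.emb (1, (c k).2) = (k : G)
    rw [← hc k, ← hfst k]
  · exact (hodd k).of_dvd_nat (orderOf_map_dvd (MonoidHom.snd _ L) (c k))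
  · intro h
    have h1 : c k = 1 := Prod.ext (hfst k) h
    exact Subtype.ext (by rw [← hc k, h1, map_one]; rfl)
  · rintro rfl
    have h : c 1 = 1 := D.emb_injective (by rw [hc, map_one]; rfl)
    show (c 1).2 = 1
    rw [h]; rfl

variable {D}

theorem emb_section {x0 : ↥P.W} (hx0 : (x0 : G) = D.t) {ι : ↥P.K →* L}
    (hι : ∀ k : ↥P.K, D.emb (1, ι k) = (k : G)) (k : ↥P.K) :
    D.emb (tu, ι k) = (x0 : G) * k := by
  rw [← hι k, hx0, ← D.emb_t, ← map_mul, Prod.mk_mul_mk, mul_one, one_mul]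

variable [Fintype G]

/-- `F θ` vanishes on `K` -/
theorem F_apply_K {θ : L → ℂ} (h : VanEven θ) (k : ↥P.K) : D.F θ (k : G) = 0 := by
  refine D.F_eq_zero h fun x a ha he => tu_ne_one ?_
  have hN : Odd (Nat.card ↥P.K * orderOf a) := P.odd.mul ha
  have hk : (k : G) ^ (Nat.card ↥P.K * orderOf a) = 1 := by
    rw [pow_mul, show (k : G) ^ Nat.card ↥P.K = 1 from
      congrArg Subtype.val (pow_card_eq_one' (x := k)), one_pow]
  have h1 := congrArg (· ^ (Nat.card ↥P.K * orderOf a)) he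
  simp only [D.emb_pow hN (dvd_mul_left _ _)] at h1
  rw [show x⁻¹ * (k : G) * x = x⁻¹ * k * (x⁻¹)⁻¹ by simp, conj_pow, hk, mul_one,
    mul_inv_cancel] at h1
  exact absurd h1.symm D.t_ne_one

variable [Fintype L] {lam : ↥P.K →* ℂˣ} (hlam : P.Adapted lam)
include hlam

theorem classInner_ind_F_const (s : ↥P.W → ℂ) {θ : L → ℂ} (h : VanEven θ) {x0 : ↥P.W}
    (hx0 : (x0 : G) = D.t) {ι : ↥P.K →* L} (hι : ∀ k : ↥P.K, D.emb (1, ι k) = (k : G))
    (hodd : ∀ k : ↥P.K, Odd (orderOf (ι k))) {c : ℂ}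
    (hθ : ∀ k : ↥P.K, k ≠ 1 → θ (ι k) = c) :
    classInner (P.ind s lam) (D.F θ) = conj c / 2 * ∑ i : Fin 3, s (P.actW (i, 0) x0) := by
  have hx1 : x0 ≠ 1 := fun e => D.t_ne_one (by rw [← hx0, e]; rfl)
  rw [P.classInner_ind_const hlam s (D.isClass_F θ) hx1 (fun k => P.F_apply_K h k) (c := 2 * c)
    (fun k hk => by rw [← P.emb_section hx0 hι, D.F_emb h (hodd k), hθ k hk])]
  rw [map_mul, map_ofNat]
  ring

/-- `H v` against `F θ`, `θ` constant on `K#` -/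
theorem classInner_H_F_const {v : ↥P.W} (hv : v ≠ 1) {θ : L → ℂ} (h : VanEven θ) {x0 : ↥P.W}
    (hx0 : (x0 : G) = D.t) {ι : ↥P.K →* L} (hι : ∀ k : ↥P.K, D.emb (1, ι k) = (k : G))
    (hodd : ∀ k : ↥P.K, Odd (orderOf (ι k))) {c : ℂ}
    (hθ : ∀ k : ↥P.K, k ≠ 1 → θ (ι k) = c) :
    classInner (P.H v lam) (D.F θ) = -conj c / 2 := by
  have hx1 : x0 ≠ 1 := fun e => D.t_ne_one (by rw [← hx0, e]; rfl)
  rw [H_eq_ind, P.classInner_ind_F_const hlam _ h hx0 hι hodd hθ, P.sum_sgn_orbit hlam hv hx1]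
  ring

/-- `H₁` against `F θ`, `θ` constant on `K#` -/
theorem classInner_H1_F_const {θ : L → ℂ} (h : VanEven θ) {x0 : ↥P.W}
    (hx0 : (x0 : G) = D.t) {ι : ↥P.K →* L} (hι : ∀ k : ↥P.K, D.emb (1, ι k) = (k : G))
    (hodd : ∀ k : ↥P.K, Odd (orderOf (ι k))) {c : ℂ}
    (hθ : ∀ k : ↥P.K, k ≠ 1 → θ (ι k) = c) :
    classInner (P.H1 lam) (D.F θ) = 3 * conj c / 2 := by
  rw [H1, P.classInner_ind_F_const hlam _ h hx0 hι hodd hθ]
  simp
  ring

/-- `θ = a (μ + μ⁻¹)` on `K#`, `μ` in the orbit of `lam` -/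
theorem classInner_ind_F_hom (s : ↥P.W → ℂ) {θ : L → ℂ} (h : VanEven θ) {x0 : ↥P.W}
    (hx0 : (x0 : G) = D.t) {ι : ↥P.K →* L} (hι : ∀ k : ↥P.K, D.emb (1, ι k) = (k : G))
    (hodd : ∀ k : ↥P.K, Odd (orderOf (ι k))) {a : ℂ} {μ : ↥P.K →* ℂˣ} {i0 : Fin 3}
    (hμ : μ = lam.comp (P.actK (i0, 0)) ∨ μ = (lam.comp (P.actK (i0, 0)))⁻¹)
    (hθ : ∀ k : ↥P.K, k ≠ 1 → θ (ι k) = a * ((μ k : ℂ) + (μ k : ℂ)⁻¹)) :
    classInner (P.ind s lam) (D.F θ) = -conj a / 2 * s (P.actW (i0, 0) x0) := by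
  have hx1 : x0 ≠ 1 := fun e => D.t_ne_one (by rw [← hx0, e]; rfl)
  rw [P.classInner_ind_hom_eq hlam s (D.isClass_F θ) hx1 (fun k => P.F_apply_K h k) (a := 2 * a)
    hμ (fun k hk => by rw [← P.emb_section hx0 hι, D.F_emb h (hodd k), hθ k hk]; ring)]
  rw [map_mul, map_ofNat]
  ring

theorem classInner_ind_F_hom_ne (s : ↥P.W → ℂ) {θ : L → ℂ} (h : VanEven θ) {x0 : ↥P.W}
    (hx0 : (x0 : G) = D.t) {ι : ↥P.K →* L} (hι : ∀ k : ↥P.K, D.emb (1, ι k) = (k : G))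
    (hodd : ∀ k : ↥P.K, Odd (orderOf (ι k))) {a : ℂ} {μ : ↥P.K →* ℂˣ} (hμ : μ ≠ 1)
    (hne : ∀ i : Fin 3, lam.comp (P.actK (i, 0)) ≠ μ ∧ lam.comp (P.actK (i, 0)) ≠ μ⁻¹)
    (hθ : ∀ k : ↥P.K, k ≠ 1 → θ (ι k) = a * ((μ k : ℂ) + (μ k : ℂ)⁻¹)) :
    classInner (P.ind s lam) (D.F θ) = 0 := by
  have hx1 : x0 ≠ 1 := fun e => D.t_ne_one (by rw [← hx0, e]; rfl)
  exact P.classInner_ind_hom_ne hlam s (D.isClass_F θ) hx1 (fun k => P.F_apply_K h k) (a := 2 * a)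
    hμ hne (fun k hk => by rw [← P.emb_section hx0 hι, D.F_emb h (hodd k), hθ k hk]; ring)

end TorusPair

end Cfsg.Agent.H40.Ward
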